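import Mathlib
import Cfsg.Agent.Spor.F22.Base2

/-! Generated by tools/fl: elements of order 11 of Fi22 -/

set_option autoImplicit false
set_option maxRecDepth 100000
set_option linter.unusedVariables false
set_option exponentiation.threshold 100000

namespace Cfsg.Agent.Spor.F22

open Cfsg.Agent.Spor Cfsg.Agent.Spor.FL

noncomputable def c11_f : LT :=
(.node (.node (.leaf [nat_lit 3524,nat_lit 3515,nat_lit 3520,nat_lit 3512])
 (.leaf [nat_lit 1018]))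
 (.leaf [nat_lit 3513,nat_lit 3520,nat_lit 3515,nat_lit 3524]))

noncomputable def c11_l : LT :=
(.leaf [nat_lit 3516,nat_lit 3519,nat_lit 3511,nat_lit 3520,nat_lit 3513,nat_lit 3520,nat_lit 3510,nat_lit 3514,nat_lit 3515,nat_lit 3512,nat_lit 3510,nat_lit 3515,nat_lit 3516,nat_lit 3514,nat_lit 3515,nat_lit 3513,nat_lit 3515,nat_lit 3514,nat_lit 3511,nat_lit 3512,nat_lit 3510,nat_lit 3514,nat_lit 3511,nat_lit 3512,nat_lit 3510])

theorem c11_hf : c11_f.all (lettersLt 3525) = true := by decide +kernel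

theorem c11_hl : c11_l.all (lettersLt 3525) = true := by decide +kernel

noncomputable def c11_w_P : ℕ → ℕ := fun i => Nat.land (Nat.shiftRight (nat_lit 1440) (Nat.mul (nat_lit 11) i)) (nat_lit 2047)

theorem c11_w_n : CntLe ((fixT (wT X c11_f) (nat_lit 1))) 3510 1 := cntLe_of (a := (nat_lit 3510)) (c := (nat_lit 1)) (by decide +kernel)

theorem c11_w_p : ∀ i < 1, (fun i => band (incOK c11_w_P (nat_lit 1) (nat_lit 3510) i) (force (c11_w_P i) (fixT (wT X c11_f) (nat_lit 1)))) i = true := allRange_zero (len := (nat_lit 1)) (by decide +kernel)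

theorem c11_w_W : Win 3510 (fixT (wT X c11_f) (nat_lit 1)) 1 c11_w_P := win_of_count c11_w_n c11_w_p

theorem c11_low : allLt (nat_lit 1) (fun y => allLt (nat_lit 2) fun s => commW X (nat_lit 3525) B (c11_l.get y) (c11_f.get s)) = true := by decide +kernel

theorem c11_bot : band (lettersLt (nat_lit 3525) [nat_lit 3517,nat_lit 3514,nat_lit 3510,nat_lit 3520,nat_lit 3510,nat_lit 3515,nat_lit 3516,nat_lit 3510,nat_lit 3515,nat_lit 3512,nat_lit 3514,nat_lit 3511,nat_lit 3515,nat_lit 3516,nat_lit 3512,nat_lit 3515,nat_lit 3512,nat_lit 3514,nat_lit 3511,nat_lit 3510,nat_lit 3515,nat_lit 3512,nat_lit 3514,nat_lit 3511,nat_lit 3510,nat_lit 3513,nat_lit 3510]) (TM.all2 (TM.botOK X (nat_lit 3510) (nat_lit 3525) B c11_f (nat_lit 3) [nat_lit 3517,nat_lit 3514,nat_lit 3510,nat_lit 3520,nat_lit 3510,nat_lit 3515,nat_lit 3516,nat_lit 3510,nat_lit 3515,nat_lit 3512,nat_lit 3514,nat_lit 3511,nat_lit 3515,nat_lit 3516,nat_lit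 3512,nat_lit 3515,nat_lit 3512,nat_lit 3514,nat_lit 3511,nat_lit 3510,nat_lit 3515,nat_lit 3512,nat_lit 3514,nat_lit 3511,nat_lit 3510,nat_lit 3513,nat_lit 3510]) [nat_lit 0,nat_lit 2,nat_lit 3,nat_lit 5,nat_lit 17,nat_lit 1] [[nat_lit 2,nat_lit 1018,nat_lit 1,nat_lit 1,nat_lit 1,nat_lit 2,nat_lit 0,nat_lit 0,nat_lit 0,nat_lit 0,nat_lit 0,nat_lit 2,nat_lit 1,nat_lit 2,nat_lit 1],[nat_lit 2,nat_lit 1018,nat_lit 2,nat_lit 0,nat_lit 0,nat_lit 2,nat_lit 0,nat_lit 0,nat_lit 0,nat_lit 0,nat_lit 0,nat_lit 2,nat_lit 0],[nat_lit 2,nat_lit 1018,nat_lit 2,nat_lit 0,nat_lit 2,nat_lit 1,nat_lit 1,nat_lit 2,nat_lit 1,nat_lit 2,nat_lit 0,nat_lit 0,nat_lit 0,nat_lit 2,nat_lit 1,nat_lit 2,nat_lit 0,nat_lit 0],[nat_lit 2,nat_lit 1018,nat_lit 2,nat_lit 1,nat_lit 2,nat_lit 1,nat_lit 2,nat_lit 0,nat_lit 0,nat_lit 0,nat_lit 2,nat_lit 0,nat_lit 0,nat_lit 0],[nat_lit 2,nat_lit 1018,nat_lit 2,nat_lit 0,nat_lit 0,nat_lit 2,nat_lit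 0,nat_lit 2,nat_lit 1,nat_lit 2,nat_lit 1,nat_lit 2,nat_lit 1,nat_lit 2,nat_lit 1,nat_lit 1,nat_lit 1],[nat_lit 2,nat_lit 1018,nat_lit 1,nat_lit 2,nat_lit 1,nat_lit 1,nat_lit 1,nat_lit 2,nat_lit 1,nat_lit 1,nat_lit 1,nat_lit 2,nat_lit 1,nat_lit 2,nat_lit 0,nat_lit 0]]) = true := by decide +kernel

theorem c11_c1 {G : Type*} [Group G] (M : Mod G) (hM : Good M) (low : genLt (M.wl c11_l) 0 ≤ cen (M.wl c11_f) 3) : TM.CL (M.wl c11_f) 3 (M.wl c11_l) 0 1 :=
  M.cl_bot c11_hf M.base c11_bot _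

noncomputable def c11_0O : ℕ → ℕ := fun i => Nat.land (Nat.shiftRight (nat_lit 0xdb3d28b51adbac0abba6ea5ca129268a37e57675734d14733fa1cb17013306f03b) (Nat.mul (nat_lit 12) i)) (nat_lit 4095)

noncomputable def c11_0E : ℕ → ℕ := fun i => Nat.land (Nat.shiftRight (nat_lit 0x14260030600304004c240021600501003820008440221800815008010038480001e015140058180501c0000000d0d00782802440024140040e00) (Nat.mul (nat_lit 21) i)) (nat_lit 0x1fffff)

noncomputable def c11_0_ts : List (List ℕ) := [[nat_lit 0,nat_lit 1,nat_lit 255,nat_lit 0],[nat_lit 0,nat_lit 1,nat_lit 1,nat_lit 255,nat_lit 0,nat_lit 0],[nat_lit 0,nat_lit 1,nat_lit 1,nat_lit 1,nat_lit 255,nat_lit 0,nat_lit 0,nat_lit 0],[nat_lit 1,nat_lit 1,nat_lit 1,nat_lit 1,nat_lit 255,nat_lit 1,nat_lit 255,nat_lit 0,nat_lit 255,nat_lit 0,nat_lit 0,nat_lit 0],[nat_lit 1,nat_lit 1,nat_lit 255,nat_lit 1,nat_lit 1,nat_lit 255,nat_lit 0,nat_lit 0,nat_lit 255,nat_lit 0],[nat_lit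 1,nat_lit 0,nat_lit 0,nat_lit 255,nat_lit 0,nat_lit 0,nat_lit 255,nat_lit 1,nat_lit 1,nat_lit 255,nat_lit 1,nat_lit 1],[nat_lit 1,nat_lit 0,nat_lit 255,nat_lit 0,nat_lit 0,nat_lit 0,nat_lit 0,nat_lit 255,nat_lit 1,nat_lit 1,nat_lit 1,nat_lit 1,nat_lit 255,nat_lit 1]]

theorem c11_0_s : TM.stepOK X (nat_lit 3510) (nat_lit 3525) B c11_f c11_l (nat_lit 2) (nat_lit 1) (nat_lit 0) (nat_lit 22) (nat_lit 22) (nat_lit 1018) (fun _ => true) c11_0_ts = true := by decide +kernel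

theorem c11_0_o : ∀ i < 22, (fun i => band (incOK c11_0O (nat_lit 22) (nat_lit 3510) i) (orbL (wT X c11_l) (nat_lit 1) c11_0O c11_0E (nat_lit 22) (Nat.beq (nat_lit 1018)) i)) i = true := allRange_zero (len := (nat_lit 22)) (by decide +kernel)

theorem c11_0_n : CntLe (fun i => force ((fun i => i) i) (tsts (wT X c11_f) X c11_0_ts)) 3510 22 := cntLe_of (a := (nat_lit 3510)) (c := (nat_lit 22)) (by decide +kernel)

theorem c11_c0 {G : Type*} [Group G] (M : Mod G) (hM : Good M) (low : genLt (M.wl c11_l) 1 ≤ cen (M.wl c11_f) 2) : TM.CL (M.wl c11_f) 2 (M.wl c11_l) 1 22 :=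
  M.cl_step c11_hf c11_hl low (c11_c1 M hM) (inv_true _ _ _) (win_id _ _) c11_0_s c11_0_o c11_0_n (Or.inl le_rfl)

theorem c11 {G : Type*} [Group G] (M : Mod G) (hM : Good M) : TM.CL (M.wl c11_f) 2 (M.wl c11_l) 1 22 :=
  c11_c0 M hM (M.low_of_comm c11_low)

theorem c11_card {G : Type*} [Group G] (M : Mod G) (hM : Good M) : Nat.card (Subgroup.centralizer ({M.wl c11_f 0} : Set G)) = 22 := by
  rw [← cen_one, ← cen_eq_of_mem (b := 2) (by decide) (M.mem_genLt_inv c11_hf (by decide +kernel))]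
  exact (c11 M hM).card

theorem c11_ord {G : Type*} [Group G] (M : Mod G) : orderOf (M.wl c11_f 0) = 11 :=
  have : Fact (Nat.Prime 11) := ⟨by norm_num⟩
  M.orderOf_prime (by decide +kernel) (by decide +kernel)

/-- An element acting on the subgroup of order 11. -/
def c11_y : List ℕ := [nat_lit 3513,nat_lit 3514,nat_lit 3511,nat_lit 3514,nat_lit 3513,nat_lit 3514,nat_lit 3515,nat_lit 3512,nat_lit 3514,nat_lit 3513,nat_lit 3515,nat_lit 3514,nat_lit 3516,nat_lit 3515,nat_lit 3510,nat_lit 3515,nat_lit 3513,nat_lit 3515,nat_lit 3511,nat_lit 3520,nat_lit 3512,nat_lit 3519,nat_lit 3520,nat_lit 3514]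

theorem c11_xy {G : Type*} [Group G] (M : Mod G) : M.w c11_y * M.wl c11_f 0 * (M.w c11_y)⁻¹ = M.wl c11_f 0 ^ 3 :=
  (M.cj (w := powW 3 (c11_f.get 0)) (by decide +kernel)).trans (evalW_powW _ _ _)

theorem c11_yo {G : Type*} [Group G] (M : Mod G) : M.w c11_y ^ 5 = 1 := M.pow_one (by decide +kernel)

theorem c11_yP : ∀ i < 1, (fun i => force (c11_w_P i) (fun p => band (blt p (nat_lit 3510)) (Nat.beq (traceP X c11_y p) p))) i = true := allRange_zero (len := (nat_lit 1)) (by decide +kernel)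

theorem c11_N {G : Type*} [Group G] (M : Mod G) (hM : Good M) : Subgroup.normalizer (Subgroup.zpowers (M.wl c11_f 0) : Set G) = Subgroup.centralizer {M.wl c11_f 0} ⊔ Subgroup.zpowers (M.w c11_y) ∧
    Nat.card (Subgroup.normalizer (Subgroup.zpowers (M.wl c11_f 0) : Set G)) = 5 * 22 :=
  have := M.fin
  have : Fact (Nat.Prime 11) := ⟨by norm_num⟩
  normalizer_zpowers_sylow (c11_ord M) (c11_xy M) (by decide) hM.card (by norm_num) (c11_card M hM) (by decide +kernel)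

end Cfsg.Agent.Spor.F22
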