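import Mathlib
import Cfsg.Agent.Spor.F22.Aut

/-! Generated by tools/fl: centralizers of outer involutions of Fi22 -/

set_option autoImplicit false
set_option maxRecDepth 100000
set_option linter.unusedVariables false
set_option exponentiation.threshold 100000
set_option Elab.async false

namespace Cfsg.Agent.Spor.F22A

open Cfsg.Agent.Spor Cfsg.Agent.Spor.FL

noncomputable def cs_f : LT :=
(.node (.node (.node (.leaf [nat_lit 3525])
 (.leaf [nat_lit 3517]))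
 (.node (.leaf [nat_lit 2956])
 (.leaf [nat_lit 2347])))
 (.node (.node (.leaf [nat_lit 3524])
 (.leaf [nat_lit 3010]))
 (.leaf [nat_lit 3478])))

noncomputable def cs_l : LT :=
(.node (.node (.node (.leaf [nat_lit 3525])
 (.leaf [nat_lit 3512,nat_lit 3510,nat_lit 3514,nat_lit 3515,nat_lit 3516,nat_lit 3515,nat_lit 3510,nat_lit 3513,nat_lit 3514,nat_lit 3511,nat_lit 3525]))
 (.node (.leaf [nat_lit 3515,nat_lit 3516,nat_lit 3515,nat_lit 3511,nat_lit 3510,nat_lit 3515,nat_lit 3516,nat_lit 3515,nat_lit 3511,nat_lit 3510,nat_lit 3525])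
 (.leaf [nat_lit 3255])))
 (.node (.node (.leaf [nat_lit 3514,nat_lit 3515,nat_lit 3512,nat_lit 3514,nat_lit 3513,nat_lit 3515,nat_lit 3516,nat_lit 3512,nat_lit 3515,nat_lit 3511,nat_lit 3515,nat_lit 3510,nat_lit 3512,nat_lit 3514,nat_lit 3512,nat_lit 3514,nat_lit 3513,nat_lit 3511,nat_lit 3510,nat_lit 3513])
 (.leaf [nat_lit 3516]))
 (.leaf [nat_lit 3516,nat_lit 3511,nat_lit 3514,nat_lit 3513,nat_lit 3511,nat_lit 3510,nat_lit 3514,nat_lit 3510,nat_lit 3512,nat_lit 3512])))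

theorem cs_hf : cs_f.all (lettersLt 3526) = true := by decide +kernel

theorem cs_hl : cs_l.all (lettersLt 3526) = true := by decide +kernel

noncomputable def cs_w_P : ℕ → ℕ := fun i => Nat.land (Nat.shiftRight (nat_lit 0xdb5db4db3db2db1db0dafdaedaddacdabdaada9da8da7da6da5da4da3da2da1d9fd9ed9dd9cd9bd9ad99d98d97d96d95d94d93d92d91d90d8fd8ed8dd8cd8bd8ad86d85d84d83d82d81d80d7fd7ed7dd7cd7bd7ad79d78d77d76d75d74d73d72d71d70d6fd6ed6dd6cd6bd6ad69d68d67d66d65d64d63d62d5ad59d58d57d56d55d54d53d52d51d50d4fd4ed4dd43d42d41d40d3fd3ed3dd3cd3bd3ad39d38d37d36d34d33d32d31d30d2fd2ed2dd2cd1ed1cd1bd1ad19d18d17d16d14d13d12d11d10d0fd0ed0dd0cd0bd0ad09d08d06cffcfdcfccf9cf8cf7cf5cf4cf3cf1cf0ceecebcdbcdacd6cd5cd4cd3cd1ccecbbcbacb9cb7cb6cb5cb3cb2cb1cb0cafcaecaccabca8ca4ca3ca2ca0c9ec9dc9cc99c97c95c78c75c74c71c70c6fc6bc68c65c62c5fc51c4ec48c45c41c3cc25c24c1dc1abfabf9bf8bf6bf3bf2bf1beebe9be7be3be0bd7bd5bd1bcdbcabc2b95b92b8cb86b7eb67b3ab07b05b01afdafaaebad4a879fb8b28b18b08af84284184083f7bb7ba7b975c75b75a7597586df6de68968868668561e5c35c15c05bd5694fe4fb4f944143f38e2e82a62a029e27825325225121e2172161f61f51d81d71d51d41d31d21d11ac1ab1a41a318a18917317217016f16e16d16c15314a14913513412312212011f11e1051040f40f30e60e50e30d00cf0c20c10b60ad0a409808b06e06d05605405305103d03903803402602501f01b01201101000e00d00c00b00a004003002001000)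 (Nat.mul (nat_lit 12) i)) (nat_lit 4095)

theorem cs_w_n : CntLe ((fixT (wT X cs_f) (nat_lit 1))) 3510 360 := cntLe_of (a := (nat_lit 3510)) (c := (nat_lit 360)) (by decide +kernel)

theorem cs_w_p : ∀ i < 360, (fun i => band (incOK cs_w_P (nat_lit 360) (nat_lit 3510) i) (force (cs_w_P i) (fixT (wT X cs_f) (nat_lit 1)))) i = true := allRange_zero (len := (nat_lit 360)) (by decide +kernel)

theorem cs_w_W : Win 3510 (fixT (wT X cs_f) (nat_lit 1)) 360 cs_w_P := win_of_count cs_w_n cs_w_p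

theorem cs_low : allLt (nat_lit 7) (fun y => allLt (nat_lit 1) fun s => commW X (nat_lit 3526) B (cs_l.get y) (cs_f.get s)) = true := by decide +kernel

theorem cs_bot : band (lettersLt (nat_lit 3526) [nat_lit 3512,nat_lit 3510,nat_lit 3514,nat_lit 3510,nat_lit 3511,nat_lit 3512,nat_lit 3514,nat_lit 3515,nat_lit 3510,nat_lit 3511,nat_lit 3513,nat_lit 3515,nat_lit 3510,nat_lit 3511,nat_lit 3516,nat_lit 3515,nat_lit 3513,nat_lit 3515,nat_lit 3514,nat_lit 3513,nat_lit 3511,nat_lit 3516,nat_lit 3520,nat_lit 3512,nat_lit 3511,nat_lit 3525]) (TM.all2 (TM.botOK X (nat_lit 3510) (nat_lit 3526) B cs_f (nat_lit 7) [nat_lit 3512,nat_lit 3510,nat_lit 3514,nat_lit 3510,nat_lit 3511,nat_lit 3512,nat_lit 3514,nat_lit 3515,nat_lit 3510,nat_lit 3511,nat_lit 3513,nat_lit 3515,nat_lit 3510,nat_lit 3511,nat_lit 3516,nat_lit 3515,nat_lit 3513,nat_lit 3515,nat_lit 3514,nat_lit 3513,nat_lit 3511,nat_lit 3516,nat_lit 3520,nat_lit 3512,nat_lit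 3511,nat_lit 3525]) [nat_lit 34,nat_lit 1979,nat_lit 3176,nat_lit 3443,nat_lit 3461,nat_lit 1087] [[nat_lit 4,nat_lit 12,nat_lit 6,nat_lit 5,nat_lit 1,nat_lit 0,nat_lit 6,nat_lit 2,nat_lit 5],[nat_lit 1,nat_lit 0,nat_lit 4,nat_lit 1,nat_lit 3,nat_lit 6,nat_lit 2],[nat_lit 1,nat_lit 0,nat_lit 3,nat_lit 0,nat_lit 6,nat_lit 2,nat_lit 5],[nat_lit 1,nat_lit 0,nat_lit 0,nat_lit 6,nat_lit 3,nat_lit 0,nat_lit 6,nat_lit 5,nat_lit 4,nat_lit 3],[nat_lit 1,nat_lit 0,nat_lit 4,nat_lit 1,nat_lit 6,nat_lit 3,nat_lit 2,nat_lit 4,nat_lit 6],[nat_lit 1,nat_lit 0,nat_lit 4,nat_lit 3,nat_lit 1,nat_lit 6,nat_lit 5,nat_lit 3,nat_lit 2]]) = true := by decide +kernel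

theorem cs_c6 {G : Type*} [Group G] (M : Mod G) (hM : Good M) (low : genLt (M.wl cs_l) 0 ≤ cen (M.wl cs_f) 7) : TM.CL (M.wl cs_f) 7 (M.wl cs_l) 0 1 :=
  M.cl_bot cs_hf M.base cs_bot _

noncomputable def cs_5O : ℕ → ℕ := fun i => Nat.land (Nat.shiftRight (nat_lit 0x92b927) (Nat.mul (nat_lit 12) i)) (nat_lit 4095)

noncomputable def cs_5E : ℕ → ℕ := fun i => Nat.land (Nat.shiftRight (nat_lit 65792) (Nat.mul (nat_lit 17) i)) (nat_lit 131071)

noncomputable def cs_5_ts : List (List ℕ) := [[nat_lit 1,nat_lit 2],[nat_lit 0,nat_lit 1],[nat_lit 0,nat_lit 4],[nat_lit 1,nat_lit 3,nat_lit 4,nat_lit 5,nat_lit 4,nat_lit 3],[nat_lit 1,nat_lit 1,nat_lit 2,nat_lit 5,nat_lit 2,nat_lit 1],[nat_lit 1,nat_lit 4,nat_lit 3,nat_lit 1,nat_lit 5,nat_lit 1,nat_lit 3,nat_lit 4]]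

theorem cs_5_s : TM.stepOK X (nat_lit 3510) (nat_lit 3526) B cs_f cs_l (nat_lit 6) (nat_lit 1) (nat_lit 0) (nat_lit 2) (nat_lit 2) (nat_lit 2347) (fun _ => true) cs_5_ts = true := by decide +kernel

theorem cs_5_o : ∀ i < 2, (fun i => band (incOK cs_5O (nat_lit 2) (nat_lit 3510) i) (orbL (wT X cs_l) (nat_lit 1) cs_5O cs_5E (nat_lit 2) (Nat.beq (nat_lit 2347)) i)) i = true := allRange_zero (len := (nat_lit 2)) (by decide +kernel)

theorem cs_5_n : CntLe (fun i => force ((fun i => i) i) (tsts (wT X cs_f) X cs_5_ts)) 3510 2 := cntLe_of (a := (nat_lit 3510)) (c := (nat_lit 2)) (by decide +kernel)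

theorem cs_c5 {G : Type*} [Group G] (M : Mod G) (hM : Good M) (low : genLt (M.wl cs_l) 1 ≤ cen (M.wl cs_f) 6) : TM.CL (M.wl cs_f) 6 (M.wl cs_l) 1 2 :=
  M.cl_step cs_hf cs_hl low (cs_c6 M hM) (inv_true _ _ _) (win_id _ _) cs_5_s cs_5_o cs_5_n (Or.inl le_rfl)

noncomputable def cs_4O : ℕ → ℕ := fun i => Nat.land (Nat.shiftRight (nat_lit 0xd43d38d1bd11d0abc2) (Nat.mul (nat_lit 12) i)) (nat_lit 4095)

noncomputable def cs_4E : ℕ → ℕ := fun i => Nat.land (Nat.shiftRight (nat_lit 0x4080502020040b0201004040000) (Nat.mul (nat_lit 18) i)) (nat_lit 262143)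

noncomputable def cs_4_ts : List (List ℕ) := [[nat_lit 1,nat_lit 3],[nat_lit 0,nat_lit 2],[nat_lit 0,nat_lit 4,nat_lit 1,nat_lit 2,nat_lit 1,nat_lit 4],[nat_lit 0,nat_lit 4,nat_lit 1,nat_lit 3,nat_lit 1,nat_lit 4]]

theorem cs_4_s : TM.stepOK X (nat_lit 3510) (nat_lit 3526) B cs_f cs_l (nat_lit 5) (nat_lit 3) (nat_lit 1) (nat_lit 6) (nat_lit 6) (nat_lit 3010) (fixT (wT X cs_f) (nat_lit 1)) cs_4_ts = true := by decide +kernel

theorem cs_4_o : ∀ i < 6, (fun i => band (incOK cs_4O (nat_lit 6) (nat_lit 3510) i) (orbL (wT X cs_l) (nat_lit 3) cs_4O cs_4E (nat_lit 6) (Nat.beq (nat_lit 3010)) i)) i = true := allRange_zero (len := (nat_lit 6)) (by decide +kernel)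

theorem cs_4_n : CntLe (fun i => force (cs_w_P i) (tsts (wT X cs_f) X cs_4_ts)) 360 6 := cntLe_of (a := (nat_lit 360)) (c := (nat_lit 6)) (by decide +kernel)

theorem cs_c4 {G : Type*} [Group G] (M : Mod G) (hM : Good M) (low : genLt (M.wl cs_l) 3 ≤ cen (M.wl cs_f) 5) : TM.CL (M.wl cs_f) 5 (M.wl cs_l) 3 12 :=
  M.cl_step cs_hf cs_hl low (cs_c5 M hM) (M.inv_fixW cs_hf (by decide)) cs_w_W cs_4_s cs_4_o cs_4_n (Or.inl le_rfl)

noncomputable def cs_3O : ℕ → ℕ := fun i => Nat.land (Nat.shiftRight (nat_lit 0x8b07b96de61e4f943f38e2e82531d81d71ac1ab17317216d16c15312312211f11e0e60e30ad08b06e05403401b00c00b) (Nat.mul (nat_lit 12) i)) (nat_lit 4095)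

noncomputable def cs_3E : ℕ → ℕ := fun i => Nat.land (Nat.shiftRight (nat_lit 0xd0381c0100b01207b0601f0281b4180780e07f08015018194080580c029090388481ac1c0f2100560303b8200dc1009c0a06f05036030114080b210035070310381c01004202060090330281b418080000120801) (Nat.mul (nat_lit 21) i)) (nat_lit 0x1fffff)

noncomputable def cs_3_ts : List (List ℕ) := [[nat_lit 1,nat_lit 1],[nat_lit 0,nat_lit 2,nat_lit 1,nat_lit 3,nat_lit 1,nat_lit 2]]

theorem cs_3_s : TM.stepOK X (nat_lit 3510) (nat_lit 3526) B cs_f cs_l (nat_lit 4) (nat_lit 4) (nat_lit 3) (nat_lit 32) (nat_lit 32) (nat_lit 12) (fixT (wT X cs_f) (nat_lit 1)) cs_3_ts = true := by decide +kernel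

theorem cs_3_o : ∀ i < 32, (fun i => band (incOK cs_3O (nat_lit 32) (nat_lit 3510) i) (orbL (wT X cs_l) (nat_lit 4) cs_3O cs_3E (nat_lit 32) (Nat.beq (nat_lit 12)) i)) i = true := allRange_zero (len := (nat_lit 32)) (by decide +kernel)

theorem cs_3_n : CntLe (fun i => force (cs_w_P i) (tsts (wT X cs_f) X cs_3_ts)) 360 32 := cntLe_of (a := (nat_lit 360)) (c := (nat_lit 32)) (by decide +kernel)

theorem cs_c3 {G : Type*} [Group G] (M : Mod G) (hM : Good M) (low : genLt (M.wl cs_l) 4 ≤ cen (M.wl cs_f) 4) : TM.CL (M.wl cs_f) 4 (M.wl cs_l) 4 384 :=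
  M.cl_step cs_hf cs_hl low (cs_c4 M hM) (M.inv_fixW cs_hf (by decide)) cs_w_W cs_3_s cs_3_o cs_3_n (Or.inl le_rfl)

noncomputable def cs_2O : ℕ → ℕ := fun i => Nat.land (Nat.shiftRight (nat_lit 0xdaddacda8da7da4da3da2da1d9ed9cd9ad99d98d97d96d94d42d3ed3bd39d36d34d33d31d2cd1cd18d17d13d12d10d0cd09d08d06cfdcfccf9cf5cf4cf0cebcdbcdacd6cd4cd3cd1ccebfabf9bf3beebe9be3bd7bd5bd1b95b92b7eb3a9fb) (Nat.mul (nat_lit 12) i)) (nat_lit 4095)

noncomputable def cs_2E : ℕ → ℕ := fun i => Nat.land (Nat.shiftRight (nat_lit 0x2d070424100e60502c4080b80402b8100c80304c4080c206039c1405b0504dc0c0900601c004100000050100c80301401808904029c140d00604ec0c0db0502141012e040424100430501081806007036c140dd0604941411c0501e4140780404e0100790504ec0c078040340180d5050464100c80302a41004c060198140e60501ac1813d05047c180dc0504241010b0503dc0c0710201501011b0501200c0d60601cc100fa0504a81c0fa0503) (Nat.mul (nat_lit 22) i)) (nat_lit 0x3fffff)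

noncomputable def cs_2_ts : List (List ℕ) := [[nat_lit 1,nat_lit 2]]

theorem cs_2_s : TM.stepOK X (nat_lit 3510) (nat_lit 3526) B cs_f cs_l (nat_lit 3) (nat_lit 5) (nat_lit 4) (nat_lit 63) (nat_lit 64) (nat_lit 3478) (fixT (wT X cs_f) (nat_lit 1)) cs_2_ts = true := by decide +kernel

theorem cs_2_o : ∀ i < 63, (fun i => band (incOK cs_2O (nat_lit 63) (nat_lit 3510) i) (orbL (wT X cs_l) (nat_lit 5) cs_2O cs_2E (nat_lit 63) (Nat.beq (nat_lit 3478)) i)) i = true := allRange_zero (len := (nat_lit 63)) (by decide +kernel)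

theorem cs_2_n : CntLe (fun i => force (cs_w_P i) (tsts (wT X cs_f) X cs_2_ts)) 360 64 := cntLe_of (a := (nat_lit 360)) (c := (nat_lit 64)) (by decide +kernel)

theorem cs_2_k : ∀ i < 63, (closedL (wT X cs_l) (nat_lit 5) cs_2O (nat_lit 63) (nat_lit 7)) i = true := allRange_zero (len := (nat_lit 63)) (by decide +kernel)

theorem cs_c2 {G : Type*} [Group G] (M : Mod G) (hM : Good M) (low : genLt (M.wl cs_l) 5 ≤ cen (M.wl cs_f) 3) : TM.CL (M.wl cs_f) 3 (M.wl cs_l) 5 24192 :=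
  M.cl_step cs_hf cs_hl low (cs_c3 M hM) (M.inv_fixW cs_hf (by decide)) cs_w_W cs_2_s cs_2_o cs_2_n (Or.inr ⟨(nat_lit 7), by decide +kernel, cs_2_k⟩)

noncomputable def cs_1O : ℕ → ℕ := fun i => Nat.land (Nat.shiftRight (nat_lit 0xdb5db4db3db2db1db0dafdaedaddacdabdaada9da8da7da6da5da4da3da2da1d9fd9ed9dd9cd9bd9ad99d98d97d96d95d94d93d92d91d90d8fd8ed8dd8cd8bd8ad86d85d84d83d82d81d80d7fd7ed7dd7cd7bd7ad79d78d77d76d75d74d73d72d71d70d6fd6ed6dd6cd6bd6ad69d68d67d66d65d64d63d62d5ad59d58d57d56d55d54d53d52d51d50d4fd4ed4dd43d42d41d40d3fd3ed3dd3cd3bd3ad39d38d37d36d34d33d32d31d30d2fd2ed2dd2cd1ed1cd1bd1ad19d18d17d16d14d13d12d11d10d0fd0ed0dd0cd0bd0ad09d08d06cffcfdcfccf9cf8cf7cf5cf4cf3cf1cf0ceecebcdbcdacd6cd5cd4cd3cd1ccecbbcbacb9cb7cb6cb5cb3cb2cb1cb0cafcaecaccabca8ca4ca3ca2ca0c9ec9dc9cc99c97c95c78c75c74c71c70c6fc6bc68c65c62c5fc51c4ec48c45c41c3cc25c24c1dc1abfabf9bf8bf6bf3bf2bf1beebe9be7be3be0bd7bd5bd1bcdbcabc2b95b92b8cb86b7eb67b3ab07b05b01afdafaaebad4a879fb)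 (Nat.mul (nat_lit 12) i)) (nat_lit 4095)

noncomputable def cs_1E : ℕ → ℕ := fun i => Nat.land (Nat.shiftRight (nat_lit 0xe70705d906059d0504440504b40701e906025b0501b305058c0604b007051f06046906037706017b0502c205057f0703730601820601900703170604d206039f07050905041f06018006019d0505e20603b10605520501d10504950405d80703830604900705c507033d08018705054d0503060504310201e20605c007049706010805034207043704022a0404cb0604d507053102043503032c0602ee07026d0705bd0402dd08056a0805680705aa0604800605950402650805c20504450604690605230504ae0604c00701610705b90503950404df07053e05015c06056307054005047908054e0504db0705580805c906035605050304029706043e0502230501540705ed0603520505d20605be03049c0703c20501cf0705c906051706015f0602e50703470605520502450605a90505cf0704720404840401ca0605600604c803055605025605044a07058705037e06014d05053f0605540703370405c40605500704100602c10505730602e206040b07014e0505be0305bd04051a0702910702350305100603720401720402210703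1b0504100601b507052c0605dc07040a0604820602ae0605e106016c05036b05038006025205038805042a0405d906013605055a07041706026e04049a06051f06022305058404048705049306052107053b0404bd0404ee0704a20601b106015707052007053605044d05024405023704018805055106053907032a04024e05022a04011a0705930604be03011c07059706025d0605c80304030401310202c007037507059807010d0105700805b10603bd04016407052e05040b0705be03032e0503100605ec06010f0705ec0604b305043704031606055d06015306010605057e06021a07035f06013b04055306042507057306044405058805035707048c06037b05040205050805056c05045d06042f0705000000770602d906035b05020304053b04019c0701030404990804150805c80303950401ec06031a0701) (Nat.mul (nat_lit 24) i)) (nat_lit 0xffffff)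

noncomputable def cs_1_ts : List (List ℕ) := [[nat_lit 0,nat_lit 1]]

theorem cs_1_s : TM.stepOK X (nat_lit 3510) (nat_lit 3526) B cs_f cs_l (nat_lit 2) (nat_lit 6) (nat_lit 5) (nat_lit 240) (nat_lit 296) (nat_lit 2956) (fixT (wT X cs_f) (nat_lit 1)) cs_1_ts = true := by decide +kernel

theorem cs_1_o : ∀ i < 240, (fun i => band (incOK cs_1O (nat_lit 240) (nat_lit 3510) i) (orbL (wT X cs_l) (nat_lit 6) cs_1O cs_1E (nat_lit 240) (Nat.beq (nat_lit 2956)) i)) i = true := allRange_zero (len := (nat_lit 240)) (by decide +kernel)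

theorem cs_1_n : CntLe (fun i => force (cs_w_P i) (tsts (wT X cs_f) X cs_1_ts)) 360 296 := cntLe_of (a := (nat_lit 360)) (c := (nat_lit 296)) (by decide +kernel)

theorem cs_1_k : ∀ i < 240, (closedL (wT X cs_l) (nat_lit 6) cs_1O (nat_lit 240) (nat_lit 9)) i = true := allRange_zero (len := (nat_lit 240)) (by decide +kernel)

theorem cs_c1 {G : Type*} [Group G] (M : Mod G) (hM : Good M) (low : genLt (M.wl cs_l) 6 ≤ cen (M.wl cs_f) 2) : TM.CL (M.wl cs_f) 2 (M.wl cs_l) 6 5806080 :=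
  M.cl_step cs_hf cs_hl low (cs_c2 M hM) (M.inv_fixW cs_hf (by decide)) cs_w_W cs_1_s cs_1_o cs_1_n (Or.inr ⟨(nat_lit 9), by decide +kernel, cs_1_k⟩)

noncomputable def cs_0O : ℕ → ℕ := fun i => Nat.land (Nat.shiftRight (nat_lit 0xdb5db4db3db2db1db0dafdaedaddacdabdaada9da8da7da6da5da4da3da2da1d9fd9ed9dd9cd9bd9ad99d98d97d96d95d94d93d92d91d90d8fd8ed8dd8cd8bd8ad86d85d84d83d82d81d80d7fd7ed7dd7cd7bd7ad79d78d77d76d75d74d73d72d71d70d6fd6ed6dd6cd6bd6ad69d68d67d66d65d64d63d62d5ad59d58d57d56d55d54d53d52d51d50d4fd4ed4dd43d42d41d40d3fd3ed3dd3cd3bd3ad39d38d37d36d34d33d32d31d30d2fd2ed2dd2cd1ed1cd1bd1ad19d18d17d16d14d13d12d11d10d0fd0ed0dd0cd0bd0ad09d08d06cffcfdcfccf9cf8cf7cf5cf4cf3cf1cf0ceecebcdbcdacd6cd5cd4cd3cd1ccecbbcbacb9cb7cb6cb5cb3cb2cb1cb0cafcaecaccabca8ca4ca3ca2ca0c9ec9dc9cc99c97c95c78c75c74c71c70c6fc6bc68c65c62c5fc51c4ec48c45c41c3cc25c24c1dc1abfabf9bf8bf6bf3bf2bf1beebe9be7be3be0bd7bd5bd1bcdbcabc2b95b92b8cb86b7eb67b3ab07b05b01afdafaaebad4a879fb8b28b18b08af84284184083f7bb7ba7b975c75b75a7597586df6de68968868668561e5c35c15c05bd5694fe4fb4f944143f38e2e82a62a029e27825325225121e2172161f61f51d81d71d51d41d31d21d11ac1ab1a41a318a18917317217016f16e16d16c15314a14913513412312212011f11e1051040f40f30e60e50e30d00cf0c20c10b60ad0a409808b06e06d05605405305103d03903803402602501f01b01201101000e00d00c00b00a004003002001000)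 (Nat.mul (nat_lit 12) i)) (nat_lit 4095)

noncomputable def cs_0E : ℕ → ℕ := fun i => Nat.land (Nat.shiftRight (nat_lit 0xa2820128c140d8a0a03610505620281b301011a60802840604b3828296018192e08095b0402410181cfc1416940a04f7020370020191c141a600c0b1a05058c8282d200c0acc0c0b4803037c0300b8c14101e0c0c600606b28302c381016940a08f70201850302cf8100ab0060b1805043f82823f81416120a0a7b06038702013d00c15ee040af204055d02022f41405460a0cee05059f8281ba81416280a0d5b0405738282c641405c80a0b200501a103033801016440c094504043d0300a781811840c04bd05045d020130c1806ba0a0b5c05059e818145c1406160c050c04045f02824381011720a034106015a8301514101a1c0807230403a90202a7c100574080d5004059e0280c68141198080b650603870200cf40c066c0c094803058b8282480140aa40807460505620282bf41005120a08be05058302822501806880c0a890502a18302bd8100eb006021b06065c03028601819b808032c05050000835200c06ae0a08f702028403022080c04a40c0cfe0501470280bc81010d20a0c83060170020234c100d920a04a806056e02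01ab41815f20a02fd04047b02024bc1c15120a02f4030400828329018146a0c0c820304328303558180646080ae40503718281c7c1815600c0af204024101811001819260a05180505608282c581415920a08f4030311028343c141574080b0b06059002823ac1415ec080b0c0402830282be414167c0802ba0403828302cf8101a46080d3405045d0200cf40c11fa080aa205024f82022881404fe0a06be0503498282c3010052c080b2e05049d0301300141a5c0a0d2e0501768302c401c06c60c0c7e0506928300b8c1415b8080b340501a28200b4c10162e0a04880605410182d9c140ec80c0890060561030223814158e0c0ac00505a401823d00c04fe0a0ab205054b8201ad41816a60c02eb0504a50280d6c10046e0c0cb406050e8303538180ea008090905010683033b41808100c0d090504518282bdc0811920a028905059f020225c1016220a096406068a828131414116e0a087d060544828316c140d260a0c220504370300d600c19fa080c7204020e02821c414086a0c030506067582831c81014e408062b0504a703031581810b60a042105042d8280b701019060c0c70050339020225c1018bc0a065d06016602031781416000c0c4505012382813b81418ea0c030605062b8302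0241404020a022404042302819141414c40a040105021f82823c81018620c063b0505120201d48101aa0080c4e0604340301134180c800c0213050469820316c1410620c0ae30506120200900180da80a0c0e06012282818481810a00a025005021f82828f01805fc0a0c2105031603009781412c20a0c3b05031202028c81c10c60c089406063502821601810360c08f4030638028205010042008020c0504028300834180cd40a0214040222828201c140e100c0c5e05010d030284c1414c40a0882030670020304c140c360c07480306008281c2414188e0a02f60406060280d8814182808067105014b020301c14148c0a022105011383008fc1408e40802000000) (Nat.mul (nat_lit 25) i)) (nat_lit 0x1ffffff)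

noncomputable def cs_0_ts : List (List ℕ) := []

theorem cs_0_s : TM.stepOK X (nat_lit 3510) (nat_lit 3526) B cs_f cs_l (nat_lit 1) (nat_lit 7) (nat_lit 6) (nat_lit 360) (nat_lit 360) (nat_lit 0) (fixT (wT X cs_f) (nat_lit 1)) cs_0_ts = true := by decide +kernel

theorem cs_0_o : ∀ i < 360, (fun i => band (incOK cs_0O (nat_lit 360) (nat_lit 3510) i) (orbL (wT X cs_l) (nat_lit 7) cs_0O cs_0E (nat_lit 360) (Nat.beq (nat_lit 0)) i)) i = true := allRange_zero (len := (nat_lit 360)) (by decide +kernel)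

theorem cs_0_n : CntLe (fun i => force (cs_w_P i) (tsts (wT X cs_f) X cs_0_ts)) 360 360 := cntLe_of (a := (nat_lit 360)) (c := (nat_lit 360)) (by decide +kernel)

theorem cs_c0 {G : Type*} [Group G] (M : Mod G) (hM : Good M) (low : genLt (M.wl cs_l) 7 ≤ cen (M.wl cs_f) 1) : TM.CL (M.wl cs_f) 1 (M.wl cs_l) 7 2090188800 :=
  M.cl_step cs_hf cs_hl low (cs_c1 M hM) (M.inv_fixW cs_hf (by decide)) cs_w_W cs_0_s cs_0_o cs_0_n (Or.inl le_rfl)

theorem cs {G : Type*} [Group G] (M : Mod G) (hM : Good M) : TM.CL (M.wl cs_f) 1 (M.wl cs_l) 7 2090188800 :=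
  cs_c0 M hM (M.low_of_comm cs_low)

theorem cs_card {G : Type*} [Group G] (M : Mod G) (hM : Good M) : Nat.card (Subgroup.centralizer ({M.wl cs_f 0} : Set G)) = 2 * 1045094400 := by
  rw [← cen_one]
  exact (cs M hM).card

theorem cs_fix {G : Type*} [Group G] (M : Mod G) : (M.D ∩ (cen (M.wl cs_f) 1 : Set G)).ncard = 360 :=
  M.ncard_D_inter_cen (M.tabs_wl cs_hf 1) cs_w_W cs_w_p

noncomputable def ca_f : LT :=
(.node (.node (.node (.leaf [nat_lit 3525,nat_lit 3524])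
 (.leaf [nat_lit 110]))
 (.node (.leaf [nat_lit 3517])
 (.leaf [nat_lit 594])))
 (.node (.node (.leaf [nat_lit 3516])
 (.leaf [nat_lit 364]))
 (.node (.leaf [nat_lit 31])
 (.leaf [nat_lit 981]))))

noncomputable def ca_l : LT :=
(.node (.node (.node (.node (.leaf [nat_lit 3524])
 (.leaf [nat_lit 3517]))
 (.leaf [nat_lit 3512,nat_lit 3510,nat_lit 3513,nat_lit 3525]))
 (.node (.leaf [nat_lit 672])
 (.leaf [nat_lit 3522])))
 (.node (.node (.leaf [nat_lit 3525])
 (.leaf [nat_lit 3523]))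
 (.node (.leaf [nat_lit 3521])
 (.leaf [nat_lit 3514,nat_lit 3511,nat_lit 3512,nat_lit 3510,nat_lit 3514,nat_lit 3511,nat_lit 3512,nat_lit 3512,nat_lit 3511]))))

theorem ca_hf : ca_f.all (lettersLt 3526) = true := by decide +kernel

theorem ca_hl : ca_l.all (lettersLt 3526) = true := by decide +kernel

noncomputable def ca_w_P : ℕ → ℕ := fun i => Nat.land (Nat.shiftRight (nat_lit 0x8b07b97586de68561e5c05bd5694fb4f944143f38e2e82a62a025325225121e1d81d71d51d41d31d21d11ac1ab17317217016f16e16d16c15312312212011f11e0e60e50e30b60ad08b06e06d05605405305103903803401f01b00c00b00a000) (Nat.mul (nat_lit 12) i)) (nat_lit 4095)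

theorem ca_w_n : CntLe ((fixT (wT X ca_f) (nat_lit 1))) 3510 64 := cntLe_of (a := (nat_lit 3510)) (c := (nat_lit 64)) (by decide +kernel)

theorem ca_w_p : ∀ i < 64, (fun i => band (incOK ca_w_P (nat_lit 64) (nat_lit 3510) i) (force (ca_w_P i) (fixT (wT X ca_f) (nat_lit 1)))) i = true := allRange_zero (len := (nat_lit 64)) (by decide +kernel)

theorem ca_w_W : Win 3510 (fixT (wT X ca_f) (nat_lit 1)) 64 ca_w_P := win_of_count ca_w_n ca_w_p

theorem ca_low : allLt (nat_lit 9) (fun y => allLt (nat_lit 1) fun s => commW X (nat_lit 3526) B (ca_l.get y) (ca_f.get s)) = true := by decide +kernel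

theorem ca_bot : band (lettersLt (nat_lit 3526) [nat_lit 3511,nat_lit 3514,nat_lit 3511,nat_lit 3512,nat_lit 3512,nat_lit 3515,nat_lit 3511,nat_lit 3512,nat_lit 3515,nat_lit 3514,nat_lit 3511,nat_lit 3516,nat_lit 3515,nat_lit 3513,nat_lit 3515,nat_lit 3510,nat_lit 3516,nat_lit 3515,nat_lit 3512,nat_lit 3512,nat_lit 3510,nat_lit 3520,nat_lit 3510,nat_lit 3513,nat_lit 3515,nat_lit 3516,nat_lit 3521]) (TM.all2 (TM.botOK X (nat_lit 3510) (nat_lit 3526) B ca_f (nat_lit 8) [nat_lit 3511,nat_lit 3514,nat_lit 3511,nat_lit 3512,nat_lit 3512,nat_lit 3515,nat_lit 3511,nat_lit 3512,nat_lit 3515,nat_lit 3514,nat_lit 3511,nat_lit 3516,nat_lit 3515,nat_lit 3513,nat_lit 3515,nat_lit 3510,nat_lit 3516,nat_lit 3515,nat_lit 3512,nat_lit 3512,nat_lit 3510,nat_lit 3520,nat_lit 3510,nat_lit 3513,nat_lit 3515,nat_lit 3516,nat_lit 3521]) [nat_lit 34,nat_lit 1979,nat_lit 3176,nat_lit 3443,nat_lit 3461,nat_lit 1087] [[nat_lit 1,nat_lit 10,nat_lit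 0,nat_lit 7,nat_lit 4,nat_lit 2,nat_lit 6,nat_lit 5,nat_lit 7,nat_lit 4],[nat_lit 3,nat_lit 31,nat_lit 3,nat_lit 7,nat_lit 4,nat_lit 6,nat_lit 2,nat_lit 7],[nat_lit 1,nat_lit 10,nat_lit 3,nat_lit 2,nat_lit 7,nat_lit 3,nat_lit 6,nat_lit 5,nat_lit 7,nat_lit 4],[nat_lit 2,nat_lit 12,nat_lit 7,nat_lit 2,nat_lit 1,nat_lit 7,nat_lit 6,nat_lit 5,nat_lit 3],[nat_lit 1,nat_lit 10,nat_lit 2,nat_lit 7,nat_lit 5,nat_lit 6,nat_lit 3,nat_lit 7,nat_lit 2],[nat_lit 1,nat_lit 10,nat_lit 2,nat_lit 0,nat_lit 7,nat_lit 4,nat_lit 6,nat_lit 5,nat_lit 7]]) = true := by decide +kernel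

theorem ca_c7 {G : Type*} [Group G] (M : Mod G) (hM : Good M) (low : genLt (M.wl ca_l) 0 ≤ cen (M.wl ca_f) 8) : TM.CL (M.wl ca_f) 8 (M.wl ca_l) 0 1 :=
  M.cl_bot ca_hf M.base ca_bot _

noncomputable def ca_6O : ℕ → ℕ := fun i => Nat.land (Nat.shiftRight (nat_lit 0xbd1495eabb0) (Nat.mul (nat_lit 11) i)) (nat_lit 2047)

noncomputable def ca_6E : ℕ → ℕ := fun i => Nat.land (Nat.shiftRight (nat_lit 0x80808080400010100) (Nat.mul (nat_lit 17) i)) (nat_lit 131071)

noncomputable def ca_6_ts : List (List ℕ) := [[nat_lit 1,nat_lit 6],[nat_lit 1,nat_lit 1,nat_lit 3,nat_lit 1],[nat_lit 0,nat_lit 1],[nat_lit 1,nat_lit 2,nat_lit 1,nat_lit 4,nat_lit 1,nat_lit 2],[nat_lit 1,nat_lit 2,nat_lit 0,nat_lit 255,nat_lit 0,nat_lit 2],[nat_lit 0,nat_lit 2],[nat_lit 1,nat_lit 3,nat_lit 5,nat_lit 3]]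

theorem ca_6_s : TM.stepOK X (nat_lit 3510) (nat_lit 3526) B ca_f ca_l (nat_lit 7) (nat_lit 2) (nat_lit 0) (nat_lit 4) (nat_lit 4) (nat_lit 981) (fun _ => true) ca_6_ts = true := by decide +kernel

theorem ca_6_o : ∀ i < 4, (fun i => band (incOK ca_6O (nat_lit 4) (nat_lit 3510) i) (orbL (wT X ca_l) (nat_lit 2) ca_6O ca_6E (nat_lit 4) (Nat.beq (nat_lit 981)) i)) i = true := allRange_zero (len := (nat_lit 4)) (by decide +kernel)

theorem ca_6_n : CntLe (fun i => force ((fun i => i) i) (tsts (wT X ca_f) X ca_6_ts)) 3510 4 := cntLe_of (a := (nat_lit 3510)) (c := (nat_lit 4)) (by decide +kernel)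

theorem ca_c6 {G : Type*} [Group G] (M : Mod G) (hM : Good M) (low : genLt (M.wl ca_l) 2 ≤ cen (M.wl ca_f) 7) : TM.CL (M.wl ca_f) 7 (M.wl ca_l) 2 4 :=
  M.cl_step ca_hf ca_hl low (ca_c7 M hM) (inv_true _ _ _) (win_id _ _) ca_6_s ca_6_o ca_6_n (Or.inl le_rfl)

noncomputable def ca_5O : ℕ → ℕ := fun i => Nat.land (Nat.shiftRight (nat_lit 0x220a52) (Nat.mul (nat_lit 11) i)) (nat_lit 2047)

noncomputable def ca_5E : ℕ → ℕ := fun i => Nat.land (Nat.shiftRight (nat_lit 132096) (Nat.mul (nat_lit 9) i)) (nat_lit 511)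

noncomputable def ca_5_ts : List (List ℕ) := [[nat_lit 1,nat_lit 1],[nat_lit 0,nat_lit 2],[nat_lit 0,nat_lit 3],[nat_lit 0,nat_lit 4],[nat_lit 0,nat_lit 5]]

theorem ca_5_s : TM.stepOK X (nat_lit 3510) (nat_lit 3526) B ca_f ca_l (nat_lit 6) (nat_lit 3) (nat_lit 2) (nat_lit 2) (nat_lit 2) (nat_lit 594) (fixT (wT X ca_f) (nat_lit 1)) ca_5_ts = true := by decide +kernel

theorem ca_5_o : ∀ i < 2, (fun i => band (incOK ca_5O (nat_lit 2) (nat_lit 3510) i) (orbL (wT X ca_l) (nat_lit 3) ca_5O ca_5E (nat_lit 2) (Nat.beq (nat_lit 594)) i)) i = true := allRange_zero (len := (nat_lit 2)) (by decide +kernel)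

theorem ca_5_n : CntLe (fun i => force (ca_w_P i) (tsts (wT X ca_f) X ca_5_ts)) 64 2 := cntLe_of (a := (nat_lit 64)) (c := (nat_lit 2)) (by decide +kernel)

theorem ca_c5 {G : Type*} [Group G] (M : Mod G) (hM : Good M) (low : genLt (M.wl ca_l) 3 ≤ cen (M.wl ca_f) 6) : TM.CL (M.wl ca_f) 6 (M.wl ca_l) 3 8 :=
  M.cl_step ca_hf ca_hl low (ca_c6 M hM) (M.inv_fixW ca_hf (by decide)) ca_w_W ca_5_s ca_5_o ca_5_n (Or.inl le_rfl)

noncomputable def ca_4O : ℕ → ℕ := fun i => Nat.land (Nat.shiftRight (nat_lit 0x1ee4d616c) (Nat.mul (nat_lit 11) i)) (nat_lit 2047)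

noncomputable def ca_4E : ℕ → ℕ := fun i => Nat.land (Nat.shiftRight (nat_lit 0x4080802060000) (Nat.mul (nat_lit 17) i)) (nat_lit 131071)

noncomputable def ca_4_ts : List (List ℕ) := [[nat_lit 1,nat_lit 1,nat_lit 2],[nat_lit 0,nat_lit 3],[nat_lit 0,nat_lit 4]]

theorem ca_4_s : TM.stepOK X (nat_lit 3510) (nat_lit 3526) B ca_f ca_l (nat_lit 5) (nat_lit 4) (nat_lit 3) (nat_lit 3) (nat_lit 4) (nat_lit 364) (fixT (wT X ca_f) (nat_lit 1)) ca_4_ts = true := by decide +kernel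

theorem ca_4_o : ∀ i < 3, (fun i => band (incOK ca_4O (nat_lit 3) (nat_lit 3510) i) (orbL (wT X ca_l) (nat_lit 4) ca_4O ca_4E (nat_lit 3) (Nat.beq (nat_lit 364)) i)) i = true := allRange_zero (len := (nat_lit 3)) (by decide +kernel)

theorem ca_4_n : CntLe (fun i => force (ca_w_P i) (tsts (wT X ca_f) X ca_4_ts)) 64 4 := cntLe_of (a := (nat_lit 64)) (c := (nat_lit 4)) (by decide +kernel)

theorem ca_4_k : ∀ i < 3, (closedL (wT X ca_l) (nat_lit 4) ca_4O (nat_lit 3) (nat_lit 3)) i = true := allRange_zero (len := (nat_lit 3)) (by decide +kernel)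

theorem ca_c4 {G : Type*} [Group G] (M : Mod G) (hM : Good M) (low : genLt (M.wl ca_l) 4 ≤ cen (M.wl ca_f) 5) : TM.CL (M.wl ca_f) 5 (M.wl ca_l) 4 24 :=
  M.cl_step ca_hf ca_hl low (ca_c5 M hM) (M.inv_fixW ca_hf (by decide)) ca_w_W ca_4_s ca_4_o ca_4_n (Or.inr ⟨(nat_lit 3), by decide +kernel, ca_4_k⟩)

noncomputable def ca_3O : ℕ → ℕ := fun i => Nat.land (Nat.shiftRight (nat_lit 0xdbda14e916e2da47837053) (Nat.mul (nat_lit 11) i)) (nat_lit 2047)

noncomputable def ca_3E : ℕ → ℕ := fun i => Nat.land (Nat.shiftRight (nat_lit 0xc080b40c0a010190104a060b00814000010105) (Nat.mul (nat_lit 19) i)) (nat_lit 524287)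

noncomputable def ca_3_ts : List (List ℕ) := [[nat_lit 0,nat_lit 1],[nat_lit 1,nat_lit 2],[nat_lit 1,nat_lit 3]]

theorem ca_3_s : TM.stepOK X (nat_lit 3510) (nat_lit 3526) B ca_f ca_l (nat_lit 4) (nat_lit 6) (nat_lit 4) (nat_lit 8) (nat_lit 8) (nat_lit 110) (fixT (wT X ca_f) (nat_lit 1)) ca_3_ts = true := by decide +kernel

theorem ca_3_o : ∀ i < 8, (fun i => band (incOK ca_3O (nat_lit 8) (nat_lit 3510) i) (orbL (wT X ca_l) (nat_lit 6) ca_3O ca_3E (nat_lit 8) (Nat.beq (nat_lit 110)) i)) i = true := allRange_zero (len := (nat_lit 8)) (by decide +kernel)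

theorem ca_3_n : CntLe (fun i => force (ca_w_P i) (tsts (wT X ca_f) X ca_3_ts)) 64 8 := cntLe_of (a := (nat_lit 64)) (c := (nat_lit 8)) (by decide +kernel)

theorem ca_c3 {G : Type*} [Group G] (M : Mod G) (hM : Good M) (low : genLt (M.wl ca_l) 6 ≤ cen (M.wl ca_f) 4) : TM.CL (M.wl ca_f) 4 (M.wl ca_l) 6 192 :=
  M.cl_step ca_hf ca_hl low (ca_c4 M hM) (M.inv_fixW ca_hf (by decide)) ca_w_W ca_3_s ca_3_o ca_3_n (Or.inl le_rfl)

noncomputable def ca_2O : ℕ → ℕ := fun i => Nat.land (Nat.shiftRight (nat_lit 0x187adecfb71c75cea1732e05bc9011f1c61501c81f) (Nat.mul (nat_lit 11) i)) (nat_lit 2047)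

noncomputable def ca_2E : ℕ → ℕ := fun i => Nat.land (Nat.shiftRight (nat_lit 0x40402e0505d060690604c070460506a08035040640405303053030310204102050010600000) (Nat.mul (nat_lit 20) i)) (nat_lit 0xfffff)

noncomputable def ca_2_ts : List (List ℕ) := [[nat_lit 0,nat_lit 1],[nat_lit 0,nat_lit 2]]

theorem ca_2_s : TM.stepOK X (nat_lit 3510) (nat_lit 3526) B ca_f ca_l (nat_lit 3) (nat_lit 7) (nat_lit 6) (nat_lit 15) (nat_lit 16) (nat_lit 31) (fixT (wT X ca_f) (nat_lit 1)) ca_2_ts = true := by decide +kernel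

theorem ca_2_o : ∀ i < 15, (fun i => band (incOK ca_2O (nat_lit 15) (nat_lit 3510) i) (orbL (wT X ca_l) (nat_lit 7) ca_2O ca_2E (nat_lit 15) (Nat.beq (nat_lit 31)) i)) i = true := allRange_zero (len := (nat_lit 15)) (by decide +kernel)

theorem ca_2_n : CntLe (fun i => force (ca_w_P i) (tsts (wT X ca_f) X ca_2_ts)) 64 16 := cntLe_of (a := (nat_lit 64)) (c := (nat_lit 16)) (by decide +kernel)

theorem ca_2_k : ∀ i < 15, (closedL (wT X ca_l) (nat_lit 7) ca_2O (nat_lit 15) (nat_lit 5)) i = true := allRange_zero (len := (nat_lit 15)) (by decide +kernel)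

theorem ca_c2 {G : Type*} [Group G] (M : Mod G) (hM : Good M) (low : genLt (M.wl ca_l) 7 ≤ cen (M.wl ca_f) 3) : TM.CL (M.wl ca_f) 3 (M.wl ca_l) 7 2880 :=
  M.cl_step ca_hf ca_hl low (ca_c3 M hM) (M.inv_fixW ca_hf (by decide)) ca_w_W ca_2_s ca_2_o ca_2_n (Or.inr ⟨(nat_lit 5), by decide +kernel, ca_2_k⟩)

noncomputable def ca_1O : ℕ → ℕ := fun i => Nat.land (Nat.shiftRight (nat_lit 0xdbda170f5c0b7b3edc72e84a6944ec1d73a874ce91732e05bcb716d24047c8f0e30dc1502983907007c0600b) (Nat.mul (nat_lit 11) i)) (nat_lit 2047)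

noncomputable def ca_1E : ℕ → ℕ := fun i => Nat.land (Nat.shiftRight (nat_lit 0x98183f00c1b6060ae0207701016c0c1a6060960404e0182700c0ae0807a0404701036c0c1ec080d405035818304041e4080df040270101b808174080eb0305682822c0c1120a0860405283031014180000090507) (Nat.mul (nat_lit 21) i)) (nat_lit 0x1fffff)

noncomputable def ca_1_ts : List (List ℕ) := [[nat_lit 0,nat_lit 1]]

theorem ca_1_s : TM.stepOK X (nat_lit 3510) (nat_lit 3526) B ca_f ca_l (nat_lit 2) (nat_lit 8) (nat_lit 7) (nat_lit 32) (nat_lit 32) (nat_lit 12) (fixT (wT X ca_f) (nat_lit 1)) ca_1_ts = true := by decide +kernel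

theorem ca_1_o : ∀ i < 32, (fun i => band (incOK ca_1O (nat_lit 32) (nat_lit 3510) i) (orbL (wT X ca_l) (nat_lit 8) ca_1O ca_1E (nat_lit 32) (Nat.beq (nat_lit 12)) i)) i = true := allRange_zero (len := (nat_lit 32)) (by decide +kernel)

theorem ca_1_n : CntLe (fun i => force (ca_w_P i) (tsts (wT X ca_f) X ca_1_ts)) 64 32 := cntLe_of (a := (nat_lit 64)) (c := (nat_lit 32)) (by decide +kernel)

theorem ca_c1 {G : Type*} [Group G] (M : Mod G) (hM : Good M) (low : genLt (M.wl ca_l) 8 ≤ cen (M.wl ca_f) 2) : TM.CL (M.wl ca_f) 2 (M.wl ca_l) 8 92160 :=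
  M.cl_step ca_hf ca_hl low (ca_c2 M hM) (M.inv_fixW ca_hf (by decide)) ca_w_W ca_1_s ca_1_o ca_1_n (Or.inl le_rfl)

noncomputable def ca_0O : ℕ → ℕ := fun i => Nat.land (Nat.shiftRight (nat_lit 0x8b07b97586de68561e5c05bd5694fb4f944143f38e2e82a62a025325225121e1d81d71d51d41d31d21d11ac1ab17317217016f16e16d16c15312312212011f11e0e60e50e30b60ad08b06e06d05605405305103903803401f01b00c00b00a) (Nat.mul (nat_lit 12) i)) (nat_lit 4095)

noncomputable def ca_0E : ℕ → ℕ := fun i => Nat.land (Nat.shiftRight (nat_lit 0x3d0706b0181fd0705e8101640302ac101fa0406d4101b90508900c1f70508c4182350408981412b0404b81c0f60607e0141280508900c1a20805b4180f504048018235040270101810207682017d070268201a80503981423a040798141a40303900c14c070414201de0508741821e0506e41409c040558182150608e0141d106084c1c1cc070570101180607481c1d60604341414a0708441810906061c1c20707061020211060700042000000) (Nat.mul (nat_lit 22) i)) (nat_lit 0x3fffff)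

noncomputable def ca_0_ts : List (List ℕ) := []

theorem ca_0_s : TM.stepOK X (nat_lit 3510) (nat_lit 3526) B ca_f ca_l (nat_lit 1) (nat_lit 9) (nat_lit 8) (nat_lit 63) (nat_lit 64) (nat_lit 10) (fixT (wT X ca_f) (nat_lit 1)) ca_0_ts = true := by decide +kernel

theorem ca_0_o : ∀ i < 63, (fun i => band (incOK ca_0O (nat_lit 63) (nat_lit 3510) i) (orbL (wT X ca_l) (nat_lit 9) ca_0O ca_0E (nat_lit 63) (Nat.beq (nat_lit 10)) i)) i = true := allRange_zero (len := (nat_lit 63)) (by decide +kernel)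

theorem ca_0_n : CntLe (fun i => force (ca_w_P i) (tsts (wT X ca_f) X ca_0_ts)) 64 64 := cntLe_of (a := (nat_lit 64)) (c := (nat_lit 64)) (by decide +kernel)

theorem ca_0_k : ∀ i < 63, (closedL (wT X ca_l) (nat_lit 9) ca_0O (nat_lit 63) (nat_lit 7)) i = true := allRange_zero (len := (nat_lit 63)) (by decide +kernel)

theorem ca_c0 {G : Type*} [Group G] (M : Mod G) (hM : Good M) (low : genLt (M.wl ca_l) 9 ≤ cen (M.wl ca_f) 1) : TM.CL (M.wl ca_f) 1 (M.wl ca_l) 9 5806080 :=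
  M.cl_step ca_hf ca_hl low (ca_c1 M hM) (M.inv_fixW ca_hf (by decide)) ca_w_W ca_0_s ca_0_o ca_0_n (Or.inr ⟨(nat_lit 7), by decide +kernel, ca_0_k⟩)

theorem ca {G : Type*} [Group G] (M : Mod G) (hM : Good M) : TM.CL (M.wl ca_f) 1 (M.wl ca_l) 9 5806080 :=
  ca_c0 M hM (M.low_of_comm ca_low)

theorem ca_card {G : Type*} [Group G] (M : Mod G) (hM : Good M) : Nat.card (Subgroup.centralizer ({M.wl ca_f 0} : Set G)) = 2 * 2903040 := by
  rw [← cen_one]
  exact (ca M hM).card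

theorem ca_fix {G : Type*} [Group G] (M : Mod G) : (M.D ∩ (cen (M.wl ca_f) 1 : Set G)).ncard = 64 :=
  M.ncard_D_inter_cen (M.tabs_wl ca_hf 1) ca_w_W ca_w_p

noncomputable def cb_f : LT :=
(.node (.node (.node (.leaf [nat_lit 3525,nat_lit 3524,nat_lit 3517])
 (.leaf [nat_lit 633]))
 (.node (.leaf [nat_lit 2097])
 (.leaf [nat_lit 678])))
 (.node (.node (.leaf [nat_lit 3524])
 (.leaf [nat_lit 427]))
 (.node (.leaf [nat_lit 2740])
 (.leaf [nat_lit 1577]))))

noncomputable def cb_l : LT :=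
(.node (.node (.node (.leaf [nat_lit 3515,nat_lit 3516,nat_lit 3510,nat_lit 3515,nat_lit 3512,nat_lit 3510,nat_lit 3514,nat_lit 3515,nat_lit 3516,nat_lit 3514,nat_lit 3515,nat_lit 3513,nat_lit 3513,nat_lit 3515,nat_lit 3514,nat_lit 3512,nat_lit 3514,nat_lit 3512,nat_lit 3514,nat_lit 3511,nat_lit 3513,nat_lit 3513,nat_lit 3525])
 (.leaf [nat_lit 3523]))
 (.node (.leaf [nat_lit 3514,nat_lit 3512,nat_lit 3510,nat_lit 3515,nat_lit 3516,nat_lit 3515,nat_lit 3510,nat_lit 3513,nat_lit 3514])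
 (.leaf [nat_lit 2740])))
 (.node (.node (.leaf [nat_lit 3513,nat_lit 3513,nat_lit 3515,nat_lit 3512,nat_lit 3515,nat_lit 3513,nat_lit 3515,nat_lit 3510,nat_lit 3514,nat_lit 3513,nat_lit 3514,nat_lit 3512,nat_lit 3511,nat_lit 3510,nat_lit 3512,nat_lit 3511])
 (.leaf [nat_lit 3521]))
 (.leaf [nat_lit 3515,nat_lit 3516,nat_lit 3515,nat_lit 3511,nat_lit 3510,nat_lit 3515,nat_lit 3516,nat_lit 3515,nat_lit 3513,nat_lit 3514,nat_lit 3512,nat_lit 3514,nat_lit 3512,nat_lit 3514,nat_lit 3510,nat_lit 3513,nat_lit 3510,nat_lit 3525])))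

theorem cb_hf : cb_f.all (lettersLt 3526) = true := by decide +kernel

theorem cb_hl : cb_l.all (lettersLt 3526) = true := by decide +kernel

noncomputable def cb_w_P : ℕ → ℕ := fun i => Nat.land (Nat.shiftRight (nat_lit 0xd4bd4ad49d48d46d2bd03cc8cc7cc6cc4c0dab7ab6ab4a2ca19a18a179ac9ab9aa9a793092f92e91a9199189168b08a383283183081c7b97587426de6855c03142e82a62a42a029f27925325121e1d81d31d21d11ac1ab16e16d16c15311e0ad08b06e06d05605303800c000) (Nat.mul (nat_lit 12) i)) (nat_lit 4095)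

theorem cb_w_n : CntLe ((fixT (wT X cb_f) (nat_lit 1))) 3510 72 := cntLe_of (a := (nat_lit 3510)) (c := (nat_lit 72)) (by decide +kernel)

theorem cb_w_p : ∀ i < 72, (fun i => band (incOK cb_w_P (nat_lit 72) (nat_lit 3510) i) (force (cb_w_P i) (fixT (wT X cb_f) (nat_lit 1)))) i = true := allRange_zero (len := (nat_lit 72)) (by decide +kernel)

theorem cb_w_W : Win 3510 (fixT (wT X cb_f) (nat_lit 1)) 72 cb_w_P := win_of_count cb_w_n cb_w_p

theorem cb_low : allLt (nat_lit 7) (fun y => allLt (nat_lit 1) fun s => commW X (nat_lit 3526) B (cb_l.get y) (cb_f.get s)) = true := by decide +kernel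

theorem cb_bot : band (lettersLt (nat_lit 3526) [nat_lit 3511,nat_lit 3520,nat_lit 3513,nat_lit 3518,nat_lit 3511,nat_lit 3520,nat_lit 3515,nat_lit 3516,nat_lit 3512,nat_lit 3510,nat_lit 3515,nat_lit 3512,nat_lit 3512,nat_lit 3510,nat_lit 3515,nat_lit 3516,nat_lit 3512,nat_lit 3512,nat_lit 3512,nat_lit 3515,nat_lit 3511,nat_lit 3510,nat_lit 3512,nat_lit 3510,nat_lit 3514,nat_lit 3513,nat_lit 3511,nat_lit 3512,nat_lit 3511]) (TM.all2 (TM.botOK X (nat_lit 3510) (nat_lit 3526) B cb_f (nat_lit 8) [nat_lit 3511,nat_lit 3520,nat_lit 3513,nat_lit 3518,nat_lit 3511,nat_lit 3520,nat_lit 3515,nat_lit 3516,nat_lit 3512,nat_lit 3510,nat_lit 3515,nat_lit 3512,nat_lit 3512,nat_lit 3510,nat_lit 3515,nat_lit 3516,nat_lit 3512,nat_lit 3512,nat_lit 3512,nat_lit 3515,nat_lit 3511,nat_lit 3510,nat_lit 3512,nat_lit 3510,nat_lit 3514,nat_lit 3513,nat_lit 3511,nat_lit 3512,nat_lit 3511]) [nat_lit 34,nat_lit 1979,nat_lit 3176,nat_lit 3443,nat_lit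 3461,nat_lit 1087] [[nat_lit 4,nat_lit 633,nat_lit 2,nat_lit 7,nat_lit 5,nat_lit 0,nat_lit 7],[nat_lit 1,nat_lit 0,nat_lit 0,nat_lit 7,nat_lit 4],[nat_lit 2,nat_lit 2097,nat_lit 2,nat_lit 7,nat_lit 3,nat_lit 5,nat_lit 7,nat_lit 4],[nat_lit 3,nat_lit 2740,nat_lit 3,nat_lit 7,nat_lit 5,nat_lit 0,nat_lit 7],[nat_lit 4,nat_lit 633,nat_lit 7,nat_lit 6,nat_lit 5,nat_lit 2,nat_lit 7,nat_lit 0,nat_lit 7],[nat_lit 1,nat_lit 0,nat_lit 6,nat_lit 5,nat_lit 3,nat_lit 0,nat_lit 7,nat_lit 2,nat_lit 0,nat_lit 7,nat_lit 3]]) = true := by decide +kernel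

theorem cb_c7 {G : Type*} [Group G] (M : Mod G) (hM : Good M) (low : genLt (M.wl cb_l) 0 ≤ cen (M.wl cb_f) 8) : TM.CL (M.wl cb_f) 8 (M.wl cb_l) 0 1 :=
  M.cl_bot cb_hf M.base cb_bot _

noncomputable def cb_6O : ℕ → ℕ := fun i => Nat.land (Nat.shiftRight (nat_lit 0x8b6629) (Nat.mul (nat_lit 12) i)) (nat_lit 4095)

noncomputable def cb_6E : ℕ → ℕ := fun i => Nat.land (Nat.shiftRight (nat_lit 131072) (Nat.mul (nat_lit 9) i)) (nat_lit 511)

noncomputable def cb_6_ts : List (List ℕ) := [[nat_lit 1,nat_lit 1],[nat_lit 1,nat_lit 6],[nat_lit 1,nat_lit 3,nat_lit 4,nat_lit 3],[nat_lit 1,nat_lit 2,nat_lit 0,nat_lit 255,nat_lit 0,nat_lit 2],[nat_lit 0,nat_lit 0],[nat_lit 1,nat_lit 5,nat_lit 0,nat_lit 255,nat_lit 0,nat_lit 5]]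

theorem cb_6_s : TM.stepOK X (nat_lit 3510) (nat_lit 3526) B cb_f cb_l (nat_lit 7) (nat_lit 1) (nat_lit 0) (nat_lit 2) (nat_lit 2) (nat_lit 1577) (fun _ => true) cb_6_ts = true := by decide +kernel

theorem cb_6_o : ∀ i < 2, (fun i => band (incOK cb_6O (nat_lit 2) (nat_lit 3510) i) (orbL (wT X cb_l) (nat_lit 1) cb_6O cb_6E (nat_lit 2) (Nat.beq (nat_lit 1577)) i)) i = true := allRange_zero (len := (nat_lit 2)) (by decide +kernel)

theorem cb_6_n : CntLe (fun i => force ((fun i => i) i) (tsts (wT X cb_f) X cb_6_ts)) 3510 2 := cntLe_of (a := (nat_lit 3510)) (c := (nat_lit 2)) (by decide +kernel)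

theorem cb_c6 {G : Type*} [Group G] (M : Mod G) (hM : Good M) (low : genLt (M.wl cb_l) 1 ≤ cen (M.wl cb_f) 7) : TM.CL (M.wl cb_f) 7 (M.wl cb_l) 1 2 :=
  M.cl_step cb_hf cb_hl low (cb_c7 M hM) (inv_true _ _ _) (win_id _ _) cb_6_s cb_6_o cb_6_n (Or.inl le_rfl)

noncomputable def cb_5O : ℕ → ℕ := fun i => Nat.land (Nat.shiftRight (nat_lit 694867) (Nat.mul (nat_lit 10) i)) (nat_lit 1023)

noncomputable def cb_5E : ℕ → ℕ := fun i => Nat.land (Nat.shiftRight (nat_lit 65793) (Nat.mul (nat_lit 17) i)) (nat_lit 131071)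

noncomputable def cb_5_ts : List (List ℕ) := [[nat_lit 1,nat_lit 1],[nat_lit 1,nat_lit 2,nat_lit 3,nat_lit 4]]

theorem cb_5_s : TM.stepOK X (nat_lit 3510) (nat_lit 3526) B cb_f cb_l (nat_lit 6) (nat_lit 2) (nat_lit 1) (nat_lit 2) (nat_lit 2) (nat_lit 678) (fixT (wT X cb_f) (nat_lit 1)) cb_5_ts = true := by decide +kernel

theorem cb_5_o : ∀ i < 2, (fun i => band (incOK cb_5O (nat_lit 2) (nat_lit 3510) i) (orbL (wT X cb_l) (nat_lit 2) cb_5O cb_5E (nat_lit 2) (Nat.beq (nat_lit 678)) i)) i = true := allRange_zero (len := (nat_lit 2)) (by decide +kernel)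

theorem cb_5_n : CntLe (fun i => force (cb_w_P i) (tsts (wT X cb_f) X cb_5_ts)) 72 2 := cntLe_of (a := (nat_lit 72)) (c := (nat_lit 2)) (by decide +kernel)

theorem cb_c5 {G : Type*} [Group G] (M : Mod G) (hM : Good M) (low : genLt (M.wl cb_l) 2 ≤ cen (M.wl cb_f) 6) : TM.CL (M.wl cb_f) 6 (M.wl cb_l) 2 4 :=
  M.cl_step cb_hf cb_hl low (cb_c6 M hM) (M.inv_fixW cb_hf (by decide)) cb_w_W cb_5_s cb_5_o cb_5_n (Or.inl le_rfl)

noncomputable def cb_4O : ℕ → ℕ := fun i => Nat.land (Nat.shiftRight (nat_lit 0x8b05c01d31ab) (Nat.mul (nat_lit 12) i)) (nat_lit 4095)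

noncomputable def cb_4E : ℕ → ℕ := fun i => Nat.land (Nat.shiftRight (nat_lit 0x808040102c0c080000) (Nat.mul (nat_lit 18) i)) (nat_lit 262143)

noncomputable def cb_4_ts : List (List ℕ) := [[nat_lit 1,nat_lit 1],[nat_lit 1,nat_lit 2],[nat_lit 0,nat_lit 3],[nat_lit 0,nat_lit 4]]

theorem cb_4_s : TM.stepOK X (nat_lit 3510) (nat_lit 3526) B cb_f cb_l (nat_lit 5) (nat_lit 3) (nat_lit 2) (nat_lit 4) (nat_lit 6) (nat_lit 427) (fixT (wT X cb_f) (nat_lit 1)) cb_4_ts = true := by decide +kernel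

theorem cb_4_o : ∀ i < 4, (fun i => band (incOK cb_4O (nat_lit 4) (nat_lit 3510) i) (orbL (wT X cb_l) (nat_lit 3) cb_4O cb_4E (nat_lit 4) (Nat.beq (nat_lit 427)) i)) i = true := allRange_zero (len := (nat_lit 4)) (by decide +kernel)

theorem cb_4_n : CntLe (fun i => force (cb_w_P i) (tsts (wT X cb_f) X cb_4_ts)) 72 6 := cntLe_of (a := (nat_lit 72)) (c := (nat_lit 6)) (by decide +kernel)

theorem cb_4_k : ∀ i < 4, (closedL (wT X cb_l) (nat_lit 3) cb_4O (nat_lit 4) (nat_lit 4)) i = true := allRange_zero (len := (nat_lit 4)) (by decide +kernel)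

theorem cb_c4 {G : Type*} [Group G] (M : Mod G) (hM : Good M) (low : genLt (M.wl cb_l) 3 ≤ cen (M.wl cb_f) 5) : TM.CL (M.wl cb_f) 5 (M.wl cb_l) 3 16 :=
  M.cl_step cb_hf cb_hl low (cb_c5 M hM) (M.inv_fixW cb_hf (by decide)) cb_w_W cb_4_s cb_4_o cb_4_n (Or.inr ⟨(nat_lit 4), by decide +kernel, cb_4_k⟩)

noncomputable def cb_3O : ℕ → ℕ := fun i => Nat.land (Nat.shiftRight (nat_lit 0xd2bd03a179ac9ab9aa2a4279) (Nat.mul (nat_lit 12) i)) (nat_lit 4095)

noncomputable def cb_3E : ℕ → ℕ := fun i => Nat.land (Nat.shiftRight (nat_lit 0x8040480c0b020180103e060700805018180000) (Nat.mul (nat_lit 19) i)) (nat_lit 524287)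

noncomputable def cb_3_ts : List (List ℕ) := [[nat_lit 0,nat_lit 1],[nat_lit 0,nat_lit 2],[nat_lit 0,nat_lit 3]]

theorem cb_3_s : TM.stepOK X (nat_lit 3510) (nat_lit 3526) B cb_f cb_l (nat_lit 4) (nat_lit 4) (nat_lit 3) (nat_lit 8) (nat_lit 8) (nat_lit 633) (fixT (wT X cb_f) (nat_lit 1)) cb_3_ts = true := by decide +kernel

theorem cb_3_o : ∀ i < 8, (fun i => band (incOK cb_3O (nat_lit 8) (nat_lit 3510) i) (orbL (wT X cb_l) (nat_lit 4) cb_3O cb_3E (nat_lit 8) (Nat.beq (nat_lit 633)) i)) i = true := allRange_zero (len := (nat_lit 8)) (by decide +kernel)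

theorem cb_3_n : CntLe (fun i => force (cb_w_P i) (tsts (wT X cb_f) X cb_3_ts)) 72 8 := cntLe_of (a := (nat_lit 72)) (c := (nat_lit 8)) (by decide +kernel)

theorem cb_c3 {G : Type*} [Group G] (M : Mod G) (hM : Good M) (low : genLt (M.wl cb_l) 4 ≤ cen (M.wl cb_f) 4) : TM.CL (M.wl cb_f) 4 (M.wl cb_l) 4 128 :=
  M.cl_step cb_hf cb_hl low (cb_c4 M hM) (M.inv_fixW cb_hf (by decide)) cb_w_W cb_3_s cb_3_o cb_3_n (Or.inl le_rfl)

noncomputable def cb_2O : ℕ → ℕ := fun i => Nat.land (Nat.shiftRight (nat_lit 0xd4bd48d2bd03cc4c0dab4a179ac9ab9aa92f91a9199187422a4279) (Nat.mul (nat_lit 12) i)) (nat_lit 4095)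

noncomputable def cb_2E : ℕ → ℕ := fun i => Nat.land (Nat.shiftRight (nat_lit 0xe0304f040480303a0203207026060200000b0104f0402a0201e030230503905048030470404506037040390503) (Nat.mul (nat_lit 20) i)) (nat_lit 0xfffff)

noncomputable def cb_2_ts : List (List ℕ) := [[nat_lit 0,nat_lit 1],[nat_lit 0,nat_lit 2]]

theorem cb_2_s : TM.stepOK X (nat_lit 3510) (nat_lit 3526) B cb_f cb_l (nat_lit 3) (nat_lit 5) (nat_lit 4) (nat_lit 18) (nat_lit 20) (nat_lit 2740) (fixT (wT X cb_f) (nat_lit 1)) cb_2_ts = true := by decide +kernel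

theorem cb_2_o : ∀ i < 18, (fun i => band (incOK cb_2O (nat_lit 18) (nat_lit 3510) i) (orbL (wT X cb_l) (nat_lit 5) cb_2O cb_2E (nat_lit 18) (Nat.beq (nat_lit 2740)) i)) i = true := allRange_zero (len := (nat_lit 18)) (by decide +kernel)

theorem cb_2_n : CntLe (fun i => force (cb_w_P i) (tsts (wT X cb_f) X cb_2_ts)) 72 20 := cntLe_of (a := (nat_lit 72)) (c := (nat_lit 20)) (by decide +kernel)

theorem cb_2_k : ∀ i < 18, (closedL (wT X cb_l) (nat_lit 5) cb_2O (nat_lit 18) (nat_lit 6)) i = true := allRange_zero (len := (nat_lit 18)) (by decide +kernel)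

theorem cb_c2 {G : Type*} [Group G] (M : Mod G) (hM : Good M) (low : genLt (M.wl cb_l) 5 ≤ cen (M.wl cb_f) 3) : TM.CL (M.wl cb_f) 3 (M.wl cb_l) 5 2304 :=
  M.cl_step cb_hf cb_hl low (cb_c3 M hM) (M.inv_fixW cb_hf (by decide)) cb_w_W cb_2_s cb_2_o cb_2_n (Or.inr ⟨(nat_lit 6), by decide +kernel, cb_2_k⟩)

noncomputable def cb_1O : ℕ → ℕ := fun i => Nat.land (Nat.shiftRight (nat_lit 0xd4bd4ad49d48d46d2bd03cc8cc7cc6cc4c0dab7ab6ab4a2ca19a18a179ac9ab9aa9a793092f92e91a9199189168a383283183081c7423142a429f279) (Nat.mul (nat_lit 12) i)) (nat_lit 4095)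

noncomputable def cb_1E : ℕ → ℕ := fun i => Nat.land (Nat.shiftRight (nat_lit 0x901005a06036c140cd0302941812404049c141060a02981c1080902100809d030150101520505541c10f0505340c14b060584180cd030488140d404016420148090570100860a0510080d306043c140d507054c18145080300000110903301c147010528200d20503241c0d40403) (Nat.mul (nat_lit 22) i)) (nat_lit 0x3fffff)

noncomputable def cb_1_ts : List (List ℕ) := [[nat_lit 0,nat_lit 1]]

theorem cb_1_s : TM.stepOK X (nat_lit 3510) (nat_lit 3526) B cb_f cb_l (nat_lit 2) (nat_lit 6) (nat_lit 5) (nat_lit 40) (nat_lit 40) (nat_lit 2097) (fixT (wT X cb_f) (nat_lit 1)) cb_1_ts = true := by decide +kernel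

theorem cb_1_o : ∀ i < 40, (fun i => band (incOK cb_1O (nat_lit 40) (nat_lit 3510) i) (orbL (wT X cb_l) (nat_lit 6) cb_1O cb_1E (nat_lit 40) (Nat.beq (nat_lit 2097)) i)) i = true := allRange_zero (len := (nat_lit 40)) (by decide +kernel)

theorem cb_1_n : CntLe (fun i => force (cb_w_P i) (tsts (wT X cb_f) X cb_1_ts)) 72 40 := cntLe_of (a := (nat_lit 72)) (c := (nat_lit 40)) (by decide +kernel)

theorem cb_c1 {G : Type*} [Group G] (M : Mod G) (hM : Good M) (low : genLt (M.wl cb_l) 6 ≤ cen (M.wl cb_f) 2) : TM.CL (M.wl cb_f) 2 (M.wl cb_l) 6 92160 :=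
  M.cl_step cb_hf cb_hl low (cb_c2 M hM) (M.inv_fixW cb_hf (by decide)) cb_w_W cb_1_s cb_1_o cb_1_n (Or.inl le_rfl)

noncomputable def cb_0O : ℕ → ℕ := fun i => Nat.land (Nat.shiftRight (nat_lit 0xd4bd4ad49d48d46d2bd03cc8cc7cc6cc4c0dab7ab6ab4a2ca19a18a179ac9ab9aa9a793092f92e91a9199189168b08a383283183081c7b97587426de6855c03142e82a62a42a029f27925325121e1d81d31d21d11ac1ab16e16d16c15311e0ad08b06e06d05605303800c000) (Nat.mul (nat_lit 12) i)) (nat_lit 4095)

noncomputable def cb_0E : ℕ → ℕ := fun i => Nat.land (Nat.shiftRight (nat_lit 0x560604e80c0dd8201c704018a0a08d01409902012507028c08089c2009e0280af0402740602d8081188302af040576080800041950282bb0405500c0ae80c1550282270805560606941c15b8282a407056c040b181009a0283450502480e06841c1588301a806042a10069c201968301a50706140e06c8101950281a40706320e0ac8100e18303280603680a064c1814903828f06047e0a0d081818b8303140705340a0d041418883829107041e0c0a38181460402b506060a0c08982019c02833106060e0e02cc1c19b8283000000)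 (Nat.mul (nat_lit 23) i)) (nat_lit 0x7fffff)

noncomputable def cb_0_ts : List (List ℕ) := []

theorem cb_0_s : TM.stepOK X (nat_lit 3510) (nat_lit 3526) B cb_f cb_l (nat_lit 1) (nat_lit 7) (nat_lit 6) (nat_lit 72) (nat_lit 72) (nat_lit 0) (fixT (wT X cb_f) (nat_lit 1)) cb_0_ts = true := by decide +kernel

theorem cb_0_o : ∀ i < 72, (fun i => band (incOK cb_0O (nat_lit 72) (nat_lit 3510) i) (orbL (wT X cb_l) (nat_lit 7) cb_0O cb_0E (nat_lit 72) (Nat.beq (nat_lit 0)) i)) i = true := allRange_zero (len := (nat_lit 72)) (by decide +kernel)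

theorem cb_0_n : CntLe (fun i => force (cb_w_P i) (tsts (wT X cb_f) X cb_0_ts)) 72 72 := cntLe_of (a := (nat_lit 72)) (c := (nat_lit 72)) (by decide +kernel)

theorem cb_c0 {G : Type*} [Group G] (M : Mod G) (hM : Good M) (low : genLt (M.wl cb_l) 7 ≤ cen (M.wl cb_f) 1) : TM.CL (M.wl cb_f) 1 (M.wl cb_l) 7 6635520 :=
  M.cl_step cb_hf cb_hl low (cb_c1 M hM) (M.inv_fixW cb_hf (by decide)) cb_w_W cb_0_s cb_0_o cb_0_n (Or.inl le_rfl)

theorem cb {G : Type*} [Group G] (M : Mod G) (hM : Good M) : TM.CL (M.wl cb_f) 1 (M.wl cb_l) 7 6635520 :=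
  cb_c0 M hM (M.low_of_comm cb_low)

theorem cb_card {G : Type*} [Group G] (M : Mod G) (hM : Good M) : Nat.card (Subgroup.centralizer ({M.wl cb_f 0} : Set G)) = 2 * 3317760 := by
  rw [← cen_one]
  exact (cb M hM).card

theorem cb_fix {G : Type*} [Group G] (M : Mod G) : (M.D ∩ (cen (M.wl cb_f) 1 : Set G)).ncard = 72 :=
  M.ncard_D_inter_cen (M.tabs_wl cb_hf 1) cb_w_W cb_w_p

end Cfsg.Agent.Spor.F22A
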