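import Mathlib
import Cfsg.Agent.Spor.F22.Base2
import Cfsg.Agent.Spor.FL.Irr
import Cfsg.Agent.S0288

/-! Generated by tools/fl: fixed point subgroups of outer involutions of Fi22 -/

set_option autoImplicit false
set_option maxRecDepth 100000
set_option linter.unusedVariables false
set_option exponentiation.threshold 100000
set_option Elab.async false

namespace Cfsg.Agent.Spor.F22

open Cfsg.Agent.Spor Cfsg.Agent.Spor.FL

noncomputable def ka_g : LT :=
(.node (.node (.node (.node (.leaf [nat_lit 0])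
 (.leaf [nat_lit 339]))
 (.leaf [nat_lit 672]))
 (.node (.leaf [nat_lit 27])
 (.leaf [nat_lit 52])))
 (.node (.node (.leaf [nat_lit 12])
 (.leaf [nat_lit 11]))
 (.node (.leaf [nat_lit 291])
 (.leaf [nat_lit 84]))))

theorem ka_hg : ka_g.all (lettersLt 3525) = true := by decide +kernel

noncomputable def ka_M : ℕ → ℕ := fun i => Nat.land (Nat.shiftRight (nat_lit 0x81020448183a22e0ab1f7be3081810204089d862045018036c4441950344081810044088810204081) (Nat.mul (nat_lit 36) i)) (nat_lit 0xfffffffff)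

noncomputable def ka_h (x : ℕ) : (Matrix.symplecticGroup (Fin 3) (ZMod 2)) := pickZ (epsPlus 3) (Matrix.symplecticGroup (Fin 3) (ZMod 2)).subtype (ka_M x)

theorem ka_hs : ∀ x < 9, (Matrix.symplecticGroup (Fin 3) (ZMod 2)).subtype (ka_h x) = matZ 2 (epsPlus 3) (ka_M x) := fun x hx =>
  pickZ_spec _ ⟨⟨_, SymplecticGroup.mem_iff.2 ((by decide +kernel : ∀ x < 9, matZ 2 (epsPlus 3) (ka_M x) * Matrix.J (Fin 3) (ZMod 2) *
    (matZ 2 (epsPlus 3) (ka_M x)).transpose = Matrix.J (Fin 3) (ZMod 2)) x hx)⟩, rfl⟩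

noncomputable def ka_H_T_t : BT :=
(.node (.node (.node (.node (.leaf (nat_lit 0xffef7cefae78df6d74cf2c70beeb6caeaa689e69648e28607de75c6da6585d65544d24503ce34c2ca2481c61440c2040))
 (.leaf (nat_lit 0xbeef7caeae789e6d748e2c70ffeb6cefaa68df6964cf28603ce75c2ca6581c65540c24507de34c6da2485d61444d2040)))
 (.leaf (nat_lit 0xa68f7cb6ce78860d74964c70beeefaaeaffe9e6cf28e2df67de2ca6da3ce5d60c24d21c665834c75c248450144554040)))
 (.node (.leaf (nat_lit 0xffef7cefae78cb3c31db7d35beeb6caeaa688a38219a792569b61979f71d5d65544d245028b20938f30d1c61440c2040))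
 (.leaf (nat_lit 0xffef7c71d79f411493cf2c7020928baeaa689e6964105187e39ebb6da6585d6554d35db73ce34cb2dbaf8218a30c2040))))
 (.node (.node (.leaf (nat_lit 0xff7f75ef3e71fb6f34eb2e30be7b65ae3a61ba6b24aa2a207d77556d36517967146926103c73452c3241386304282200))
 (.leaf (nat_lit 0xdfed7ccfac78ff6f74ef2e709ee96c8ea868be6b64ae2a605de55c4da4587d67546d26501ce14c0ca0483c63442c2240)))
 (.node (.leaf (nat_lit 0xb2df7ca29e78df69a7cf28a3beefbfaeaebbd35964c3186030d75c2096585d61874d20833ce79f2ca69b515144411040))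
 (.leaf (nat_lit 0x57e5fced0e527767f4cd8c5abc4b4606a0e89cc94e2622e0d5eddc6f0672f56fd44f847a3e436684a8c81ec16ea42ac0)))))

noncomputable def ka_H_T : ℕ → ℕ → ℕ := fun x i => Nat.land (Nat.shiftRight (BT.get ka_H_T_t x) (Nat.mul (nat_lit 6) i)) (nat_lit 63)

theorem ka_H_r : allLt (nat_lit 9) (fun x => force x fun y => band (blt y (nat_lit 9)) (allRange 0 (nat_lit 64) fun i => Nat.beq (force (ka_M y) fun c => mv (nat_lit 2) (nat_lit 6) c i) (ka_H_T x i))) = true := by decide +kernel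

theorem ka_H_tabs : @Tabs _ _ _ (vecAct (Matrix.symplecticGroup (Fin 3) (ZMod 2)).subtype) (vecZ 2 (epsPlus 3)) (2 ^ 6) ka_H_T ka_h 9 :=
  let _ := vecAct (Matrix.symplecticGroup (Fin 3) (ZMod 2)).subtype
  Tabs.rename (ι := fun x => x) (tabs_vec (epsPlus 3) ka_hs) (by have := ka_H_r; simp only [force_eq] at this; exact this)

noncomputable def ka_H_l : LT :=
(.node (.node (.node (.leaf [nat_lit 6,nat_lit 7,nat_lit 1,nat_lit 6,nat_lit 7])
 (.leaf [nat_lit 4]))
 (.node (.leaf [nat_lit 8,nat_lit 2,nat_lit 5,nat_lit 3,nat_lit 1,nat_lit 2,nat_lit 5,nat_lit 3,nat_lit 1,nat_lit 8])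
 (.leaf [nat_lit 1])))
 (.node (.node (.leaf [nat_lit 8,nat_lit 4,nat_lit 8])
 (.leaf [nat_lit 2]))
 (.leaf [nat_lit 6,nat_lit 2,nat_lit 6])))

theorem ka_H_hl : ka_H_l.all (lettersLt 9) = true := by decide +kernel

noncomputable def ka_H_5O : ℕ → ℕ := fun i => Nat.land (Nat.shiftRight (nat_lit 2336) (Nat.mul (nat_lit 6) i)) (nat_lit 63)

noncomputable def ka_H_5E : ℕ → ℕ := fun i => Nat.land (Nat.shiftRight (nat_lit 131072) (Nat.mul (nat_lit 9) i)) (nat_lit 511)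

theorem ka_H_5_s : band (blt (nat_lit 32) (nat_lit 64)) (band (Nat.ble (nat_lit 0) (nat_lit 1)) (allLt (nat_lit 0) fun y => Nat.beq (wT ka_H_T ka_H_l y (nat_lit 32)) (nat_lit 32))) = true := by decide +kernel

theorem ka_H_5_o : ∀ i < 2, (fun i => band (incOK ka_H_5O (nat_lit 2) (nat_lit 64) i) (orbL (wT ka_H_T ka_H_l) (nat_lit 1) ka_H_5O ka_H_5E (nat_lit 2) (Nat.beq (nat_lit 32)) i)) i = true := allRange_zero (len := (nat_lit 2)) (by decide +kernel)

noncomputable def ka_H_4O : ℕ → ℕ := fun i => Nat.land (Nat.shiftRight (nat_lit 741968) (Nat.mul (nat_lit 5) i)) (nat_lit 31)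

noncomputable def ka_H_4E : ℕ → ℕ := fun i => Nat.land (Nat.shiftRight (nat_lit 0x4040102c08080000) (Nat.mul (nat_lit 18) i)) (nat_lit 262143)

theorem ka_H_4_s : band (blt (nat_lit 16) (nat_lit 64)) (band (Nat.ble (nat_lit 1) (nat_lit 3)) (allLt (nat_lit 1) fun y => Nat.beq (wT ka_H_T ka_H_l y (nat_lit 16)) (nat_lit 16))) = true := by decide +kernel

theorem ka_H_4_o : ∀ i < 4, (fun i => band (incOK ka_H_4O (nat_lit 4) (nat_lit 64) i) (orbL (wT ka_H_T ka_H_l) (nat_lit 3) ka_H_4O ka_H_4E (nat_lit 4) (Nat.beq (nat_lit 16)) i)) i = true := allRange_zero (len := (nat_lit 4)) (by decide +kernel)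

noncomputable def ka_H_3O : ℕ → ℕ := fun i => Nat.land (Nat.shiftRight (nat_lit 0x9a48a0184) (Nat.mul (nat_lit 6) i)) (nat_lit 63)

noncomputable def ka_H_3E : ℕ → ℕ := fun i => Nat.land (Nat.shiftRight (nat_lit 0x81d0202a040140806018180000) (Nat.mul (nat_lit 19) i)) (nat_lit 524287)

theorem ka_H_3_s : band (blt (nat_lit 4) (nat_lit 64)) (band (Nat.ble (nat_lit 3) (nat_lit 4)) (allLt (nat_lit 3) fun y => Nat.beq (wT ka_H_T ka_H_l y (nat_lit 4)) (nat_lit 4))) = true := by decide +kernel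

theorem ka_H_3_o : ∀ i < 6, (fun i => band (incOK ka_H_3O (nat_lit 6) (nat_lit 64) i) (orbL (wT ka_H_T ka_H_l) (nat_lit 4) ka_H_3O ka_H_3E (nat_lit 6) (Nat.beq (nat_lit 4)) i)) i = true := allRange_zero (len := (nat_lit 6)) (by decide +kernel)

noncomputable def ka_H_2O : ℕ → ℕ := fun i => Nat.land (Nat.shiftRight (nat_lit 0x36d32c26922816512406102) (Nat.mul (nat_lit 6) i)) (nat_lit 63)

noncomputable def ka_H_2E : ℕ → ℕ := fun i => Nat.land (Nat.shiftRight (nat_lit 0xb0402b0400303034030390502c040490501e05044030200104502015020230304a060300000) (Nat.mul (nat_lit 20) i)) (nat_lit 0xfffff)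

theorem ka_H_2_s : band (blt (nat_lit 2) (nat_lit 64)) (band (Nat.ble (nat_lit 4) (nat_lit 5)) (allLt (nat_lit 4) fun y => Nat.beq (wT ka_H_T ka_H_l y (nat_lit 2)) (nat_lit 2))) = true := by decide +kernel

theorem ka_H_2_o : ∀ i < 15, (fun i => band (incOK ka_H_2O (nat_lit 15) (nat_lit 64) i) (orbL (wT ka_H_T ka_H_l) (nat_lit 5) ka_H_2O ka_H_2E (nat_lit 15) (Nat.beq (nat_lit 2)) i)) i = true := allRange_zero (len := (nat_lit 15)) (by decide +kernel)

noncomputable def ka_H_1O : ℕ → ℕ := fun i => Nat.land (Nat.shiftRight (nat_lit 0xffef7cefae78beeb6caeaa687de75c6da6583ce34c2ca248) (Nat.mul (nat_lit 6) i)) (nat_lit 63)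

noncomputable def ka_H_1E : ℕ → ℕ := fun i => Nat.land (Nat.shiftRight (nat_lit 0x8820260240b60a0580900a820220200fe0a04a080328101d0280ae060460903b8180502806e0603e0a0448300ac1c1520c0490605c8301bc1c14e0a08d0705a82018c20140020b60b03683821c14148180a00000) (Nat.mul (nat_lit 21) i)) (nat_lit 0x1fffff)

theorem ka_H_1_s : band (blt (nat_lit 8) (nat_lit 64)) (band (Nat.ble (nat_lit 5) (nat_lit 6)) (allLt (nat_lit 5) fun y => Nat.beq (wT ka_H_T ka_H_l y (nat_lit 8)) (nat_lit 8))) = true := by decide +kernel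

theorem ka_H_1_o : ∀ i < 32, (fun i => band (incOK ka_H_1O (nat_lit 32) (nat_lit 64) i) (orbL (wT ka_H_T ka_H_l) (nat_lit 6) ka_H_1O ka_H_1E (nat_lit 32) (Nat.beq (nat_lit 8)) i)) i = true := allRange_zero (len := (nat_lit 32)) (by decide +kernel)

noncomputable def ka_H_0O : ℕ → ℕ := fun i => Nat.land (Nat.shiftRight (nat_lit 0x3ffbdf3beb9e37db5d33cb1c2fbadb2baa9a279a59238a181f79d71b69961759551349140f38d30b289207185103081) (Nat.mul (nat_lit 6) i)) (nat_lit 63)

noncomputable def ka_H_0E : ℕ → ℕ := fun i => Nat.land (Nat.shiftRight (nat_lit 0x280504dc280ba0602dc2802c05045c240fe060264240fd0b06c82c17b0b06c02c1790a06d8301770a06d03014c0303ac2c0ae040234280ee0400ac2c06e0401f42c12d0c06883416b0b0680341690c0698341670c069030158070168201580702601c1780703782014e0604702015d0906443809b080644380590906bc340d70906c4340ec050328241470205b4300dc0804381814b0d05000418d0a068c380cb0d0694380c907064c3c1000000) (Nat.mul (nat_lit 22) i)) (nat_lit 0x3fffff)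

theorem ka_H_0_s : band (blt (nat_lit 1) (nat_lit 64)) (band (Nat.ble (nat_lit 6) (nat_lit 7)) (allLt (nat_lit 6) fun y => Nat.beq (wT ka_H_T ka_H_l y (nat_lit 1)) (nat_lit 1))) = true := by decide +kernel

theorem ka_H_0_o : ∀ i < 63, (fun i => band (incOK ka_H_0O (nat_lit 63) (nat_lit 64) i) (orbL (wT ka_H_T ka_H_l) (nat_lit 7) ka_H_0O ka_H_0E (nat_lit 63) (Nat.beq (nat_lit 1)) i)) i = true := allRange_zero (len := (nat_lit 63)) (by decide +kernel)

theorem ka_H  : 1451520 ≤ Nat.card (genLt ka_h 9) :=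
  let _ := vecAct (Matrix.symplecticGroup (Fin 3) (ZMod 2)).subtype
  le_card_of_chain (c := 1451520) (LowLevel.card_fix (e := (vecZ 2 (epsPlus 3))) (lowLevel_words ka_H_tabs (vecZ_injOn (epsPlus 3)) ka_H_hl ka_H_0_s ka_H_0_o) (LowLevel.card_fix (e := (vecZ 2 (epsPlus 3))) (lowLevel_words ka_H_tabs (vecZ_injOn (epsPlus 3)) ka_H_hl ka_H_1_s ka_H_1_o) (LowLevel.card_fix (e := (vecZ 2 (epsPlus 3))) (lowLevel_words ka_H_tabs (vecZ_injOn (epsPlus 3)) ka_H_hl ka_H_2_s ka_H_2_o) (LowLevel.card_fix (e := (vecZ 2 (epsPlus 3))) (lowLevel_words ka_H_tabs (vecZ_injOn (epsPlus 3)) ka_H_hl ka_H_3_s ka_H_3_o) (LowLevel.card_fix (e := (vecZ 2 (epsPlus 3))) (lowLevel_words ka_H_tabs (vecZ_injOn (epsPlus 3)) ka_H_hl ka_H_4_s ka_H_4_o) (LowLevel.card_fix (e := (vecZ 2 (epsPlus 3))) (lowLevel_words ka_H_tabs (vecZ_injOn (epsPlus 3)) ka_H_hl ka_H_5_s ka_H_5_o) (card_fix_nil (vecZ 2 (epsPlus 3)) _))))))) (words_le_genLt ka_H_hl _)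

noncomputable def ka_P : ℕ → ℕ := fun i => Nat.land (Nat.shiftRight (nat_lit 0x8b07b97586de68561e5c05bd5694fb4f944143f38e2e82a62a025325225121e1d81d71d51d41d31d21d11ac1ab17317217016f16e16d16c15312312212011f11e0e60e50e30b60ad08b06e06d05605405305103903803401f01b00c00b00a) (Nat.mul (nat_lit 12) i)) (nat_lit 4095)

noncomputable def ka_L : ℕ → ℕ := fun i => Nat.land (Nat.shiftRight (nat_lit 0x6920a6da0fb213a50c728b5167556767dc5d86fbd3249e45aeb9ff0413cf8fbdc77f35126ae20aabe3b8d9cc149201) (Nat.mul (nat_lit 6) i)) (nat_lit 63)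

theorem ka_lab : ∀ i < 63, (labOK (wT X ka_g) ka_H_T ka_P ka_L (nat_lit 3510) (nat_lit 64) (nat_lit 63) (nat_lit 7) (nat_lit 9)) i = true := allRange_zero (len := (nat_lit 63)) (by decide +kernel)

noncomputable def ka_Q : ℕ → ℕ := fun i => Nat.land (Nat.shiftRight (nat_lit 0xdb5db4db3db2db1db0dafdaedaddacdabdaada9da8da7da6da5da4da3da2da1d9fd9ed9dd9cd9bd9ad99d98d97d96d95d94d93d92d91d90d8fd8ed8dd8cd8bd8ad86d85d84d83d82d81d80d7fd7ed7dd7cd7bd7ad79d78d77d76d75d74d73d72d71d70d6fd6ed6dd6cd6bd6ad69d68d67d66d65d64d63d62d5ad59d58d57d56d55d54d53d52d51d50d4fd4ed4dd43d42d41d40d3fd3ed3dd3cd3bd3ad39d38d37d36d34d33d32d31d30d2fd2ed2dd2cd1ed1cd1bd1ad19d18d17d16d14d13d12d11d10d0fd0ed0dd0cd0bd0ad09d08d06cffcfdcfccf9cf8cf7cf5cf4cf3cf1cf0ceecebcdbcdacd6cd5cd4cd3cd1ccecbbcbacb9cb7cb6cb5cb3cb2cb1cb0cafcaecaccabca8ca4ca3ca2ca0c9ec9dc9cc99c97c95c78c75c74c71c70c6fc6bc68c65c62c5fc51c4ec48c45c41c3cc25c24c1dc1abfabf9bf8bf6bf3bf2bf1beebe9be7be3be0bd7bd5bd1bcdbcabc2b95b92b8cb86b7eb67b3ab07b05b01afdafaaebad4a879fb)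 (Nat.mul (nat_lit 12) i)) (nat_lit 4095)

noncomputable def ka_U : ℕ → ℕ := fun i => Nat.land (Nat.shiftRight (nat_lit 0xf80000007ffffffffffffffc0000000000000000fffffffffffc000001fe) (Nat.mul (nat_lit 1) i)) (nat_lit 1)

theorem ka_sg : ∀ i < 240, (labOK (wT X ka_g) (fun s i => Nat.mod (Nat.add 1 i) 2) ka_Q ka_U (nat_lit 3510) (nat_lit 2) (nat_lit 240) (nat_lit 9) (nat_lit 9)) i = true := allRange_zero (len := (nat_lit 240)) (by decide +kernel)

noncomputable def ka_k (x : ℕ) : Multiplicative (ZMod 2) × PSp 3 (ZMod 2) :=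
  (Multiplicative.ofAdd ((1 : ℕ) : ZMod 2), QuotientGroup.mk' _ (ka_h x))

theorem ka_fn {G : Type*} [Group G] (M : Mod G) : Fn (M.wl ka_g) ka_k 9 :=
  let _ := vecAct (Matrix.symplecticGroup (Fin 3) (ZMod 2)).subtype
  (fn_of_lab (I := [0]) (M.tabs_wl ka_hg 9) M.inj (tabs_sign (A := fun _ => 1) fun _ _ => rfl) ka_sg (base_sign _ 0)
    (by decide +kernel)).prod ((fn_of_lab (B := [1, 2, 4, 8, 16, 32]) (I := [nat_lit 0,nat_lit 11,nat_lit 15,nat_lit 1,nat_lit 25,nat_lit 60]) (M.tabs_wl ka_hg 9) M.inj ka_H_tabs ka_lab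
      (vec_isBase _ Subtype.val_injective _ (by decide +kernel)) (by decide +kernel)).comp _)

theorem ka_top : genLt ka_k 9 = ⊤ := by
  refine prod_top ?_ fun x => ?_
  · rw [← genLt_map, eq_top_of_card_ge card_psp62.2.le ka_H]
    exact Subgroup.map_top_of_surjective _ (QuotientGroup.mk'_surjective _)
  · have h1 : ka_h 0 = 1 := pickZ_eq_one _ Subtype.val_injective (by decide +kernel)
    have h2 := mem_genLt ka_k (show 0 < 9 by decide)
    rw [ka_k, h1, map_one] at h2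
    rcases (by decide : ∀ x : Multiplicative (ZMod 2), x = 1 ∨ x = Multiplicative.ofAdd ((1 : ℕ) : ZMod 2)) x with rfl | rfl
    exacts [one_mem _, h2]

theorem ka_card : Nat.card (Multiplicative (ZMod 2) × PSp 3 (ZMod 2)) = 2903040 := by
  rw [Nat.card_prod, card_psp62.1]; simp

theorem ka_ge {G : Type*} [Group G] (M : Mod G) : 2903040 ≤ Nat.card (genLt (M.wl ka_g) 9) := by
  have := M.fin
  have h := (ka_fn M).card_le
  rwa [ka_top, Subgroup.card_top, ka_card] at h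

theorem ka_equiv {G : Type*} [Group G] (M : Mod G) (h : Nat.card (genLt (M.wl ka_g) 9) = 2903040) :
    Nonempty (genLt (M.wl ka_g) 9 ≃* Multiplicative (ZMod 2) × PSp 3 (ZMod 2)) := by
  have := M.fin
  obtain ⟨ε, -⟩ := (ka_fn M).equiv h.le (by rw [ka_top, Subgroup.card_top, ka_card]) ka_card.le
  exact ⟨ε⟩

noncomputable def kb_g : LT :=
(.node (.node (.node (.node (.leaf [nat_lit 3520,nat_lit 3524,nat_lit 3517,nat_lit 3520])
 (.leaf [nat_lit 3521]))
 (.leaf [nat_lit 3514,nat_lit 3512,nat_lit 3511,nat_lit 3515,nat_lit 3514,nat_lit 3512,nat_lit 3514,nat_lit 3511,nat_lit 3514,nat_lit 3511,nat_lit 3510,nat_lit 3512,nat_lit 3511,nat_lit 3510]))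
 (.node (.node (.leaf [nat_lit 3515,nat_lit 3516,nat_lit 3510,nat_lit 3515,nat_lit 3512,nat_lit 3510,nat_lit 3514,nat_lit 3515,nat_lit 3516,nat_lit 3512,nat_lit 3515,nat_lit 3510,nat_lit 3515,nat_lit 3513,nat_lit 3514,nat_lit 3511,nat_lit 3512,nat_lit 3510,nat_lit 3514,nat_lit 3511])
 (.leaf [nat_lit 672]))
 (.leaf [nat_lit 3524])))
 (.node (.node (.node (.leaf [nat_lit 3515,nat_lit 3512,nat_lit 3511,nat_lit 3514,nat_lit 3511,nat_lit 3515,nat_lit 3512,nat_lit 3511,nat_lit 3514,nat_lit 3510])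
 (.leaf [nat_lit 3522]))
 (.leaf [nat_lit 3520,nat_lit 3524,nat_lit 3517,nat_lit 3520,nat_lit 3514,nat_lit 3512,nat_lit 3515,nat_lit 3511,nat_lit 3514,nat_lit 3513,nat_lit 3511,nat_lit 3510,nat_lit 3514,nat_lit 3513,nat_lit 3513,nat_lit 3511,nat_lit 3510]))
 (.node (.node (.leaf [nat_lit 3515,nat_lit 3512,nat_lit 3515,nat_lit 3513,nat_lit 3515,nat_lit 3512,nat_lit 3514,nat_lit 3512,nat_lit 3514,nat_lit 3510,nat_lit 3512,nat_lit 3512,nat_lit 3511,nat_lit 3510])
 (.leaf [nat_lit 2097]))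
 (.leaf [nat_lit 3519]))))

theorem kb_hg : kb_g.all (lettersLt 3525) = true := by decide +kernel

noncomputable def kb_v_M : ℕ → ℕ := fun i => Nat.land (Nat.shiftRight (nat_lit 0x832a84081d907840974e3ef708183922dac1831225081d10204095810204081810204081810204081810204081810204081810204081) (Nat.mul (nat_lit 36) i)) (nat_lit 0xfffffffff)

noncomputable def kb_v_I : ℕ → ℕ := fun i => Nat.land (Nat.shiftRight (nat_lit 0x832a84081d907840974e3ef708183922dac1831225081d10204095810204081810204081810204081810204081810204081810204081) (Nat.mul (nat_lit 36) i)) (nat_lit 0xfffffffff)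

theorem kb_v_ab {G : Type*} [Group G] (M : Mod G) : Ab (M.wl kb_g) 2 6 := (M.lm kb_hg 6).ab le_rfl (by decide +kernel)

theorem kb_v_lin_0 : allRange (nat_lit 0) (nat_lit 2) (fun x => force (kb_v_M x) fun c => linOK (wT X kb_g) B (nat_lit 2) (nat_lit 6) c x) = true := by decide +kernel

theorem kb_v_lin_1 : allRange (nat_lit 2) (nat_lit 2) (fun x => force (kb_v_M x) fun c => linOK (wT X kb_g) B (nat_lit 2) (nat_lit 6) c x) = true := by decide +kernel

theorem kb_v_lin_2 : allRange (nat_lit 4) (nat_lit 2) (fun x => force (kb_v_M x) fun c => linOK (wT X kb_g) B (nat_lit 2) (nat_lit 6) c x) = true := by decide +kernel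

theorem kb_v_lin_3 : allRange (nat_lit 6) (nat_lit 2) (fun x => force (kb_v_M x) fun c => linOK (wT X kb_g) B (nat_lit 2) (nat_lit 6) c x) = true := by decide +kernel

theorem kb_v_lin_4 : allRange (nat_lit 8) (nat_lit 2) (fun x => force (kb_v_M x) fun c => linOK (wT X kb_g) B (nat_lit 2) (nat_lit 6) c x) = true := by decide +kernel

theorem kb_v_lin_5 : allRange (nat_lit 10) (nat_lit 2) (fun x => force (kb_v_M x) fun c => linOK (wT X kb_g) B (nat_lit 2) (nat_lit 6) c x) = true := by decide +kernel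

theorem kb_v_lin : ∀ i < 12, (fun x => force (kb_v_M x) fun c => linOK (wT X kb_g) B (nat_lit 2) (nat_lit 6) c x) i = true := range_append 2 (range_append 2 (range_append 2 (range_append 2 (range_append 2 (allRange_zero kb_v_lin_0) kb_v_lin_1 (b := 4)) kb_v_lin_2 (b := 6)) kb_v_lin_3 (b := 8)) kb_v_lin_4 (b := 10)) kb_v_lin_5 (b := 12)

theorem kb_v_tabs {G : Type*} [Group G] (M : Mod G) : Tabs (fun v => toCj (pcG (M.wl kb_g) 2 6 0 v)) (2 ^ 6) (fun x => mv 2 6 (kb_v_M x)) (M.wl kb_g) 12 :=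
  have : Fact (Nat.Prime 2) := ⟨by norm_num⟩
  (M.lm kb_hg 12).tabs_lin (by decide) (kb_v_ab M) fun x hx => by simpa only [force_eq] using kb_v_lin x hx

theorem kb_v_inv : ∀ x < 12, invZ 2 6 (kb_v_M x) (kb_v_I x) = true := (allLt_iff _ _).1 (by decide +kernel)

noncomputable def kb_a_l : LT :=
(.node (.node (.node (.leaf [nat_lit 1])
 (.leaf [nat_lit 0,nat_lit 5]))
 (.leaf [nat_lit 4]))
 (.node (.node (.leaf [nat_lit 3])
 (.leaf [nat_lit 0]))
 (.leaf [nat_lit 2])))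

theorem kb_a_hl : kb_a_l.all (lettersLt 6) = true := by decide +kernel

noncomputable def kb_a_1O : ℕ → ℕ := fun i => Nat.land (Nat.shiftRight (nat_lit 0xf77d6b6fe89d0d70ee0cfe346624a514926a4d0829041e83cc680cf1843045209807a0981281202204002003) (Nat.mul (nat_lit 11) i)) (nat_lit 2047)

noncomputable def kb_a_1E : ℕ → ℕ := fun i => Nat.land (Nat.shiftRight (nat_lit 0xa01817c10128060600101e82027008118060790404a0182481410002015020118181fc100ea0408c030498202280c1000205c020200081f0080da0408b02043018254080c6060820304a810134080c0020800000) (Nat.mul (nat_lit 21) i)) (nat_lit 0x1fffff)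

theorem kb_a_1_s : band (blt (nat_lit 3) (nat_lit 3510)) (band (Nat.ble (nat_lit 0) (nat_lit 5)) (allLt (nat_lit 0) fun y => Nat.beq (wT (wT X kb_g) kb_a_l y (nat_lit 3)) (nat_lit 3))) = true := by decide +kernel

theorem kb_a_1_o : ∀ i < 32, (fun i => band (incOK kb_a_1O (nat_lit 32) (nat_lit 3510) i) (orbL (wT (wT X kb_g) kb_a_l) (nat_lit 5) kb_a_1O kb_a_1E (nat_lit 32) (Nat.beq (nat_lit 3)) i)) i = true := allRange_zero (len := (nat_lit 32)) (by decide +kernel)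

noncomputable def kb_a_0O : ℕ → ℕ := fun i => Nat.land (Nat.shiftRight (nat_lit 192) (Nat.mul (nat_lit 4) i)) (nat_lit 15)

noncomputable def kb_a_0E : ℕ → ℕ := fun i => Nat.land (Nat.shiftRight (nat_lit 133632) (Nat.mul (nat_lit 9) i)) (nat_lit 511)

theorem kb_a_0_s : band (blt (nat_lit 0) (nat_lit 3510)) (band (Nat.ble (nat_lit 5) (nat_lit 6)) (allLt (nat_lit 5) fun y => Nat.beq (wT (wT X kb_g) kb_a_l y (nat_lit 0)) (nat_lit 0))) = true := by decide +kernel

theorem kb_a_0_o : ∀ i < 2, (fun i => band (incOK kb_a_0O (nat_lit 2) (nat_lit 3510) i) (orbL (wT (wT X kb_g) kb_a_l) (nat_lit 6) kb_a_0O kb_a_0E (nat_lit 2) (Nat.beq (nat_lit 0)) i)) i = true := allRange_zero (len := (nat_lit 2)) (by decide +kernel)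

theorem kb_a {G : Type*} [Group G] (M : Mod G) : 64 ≤ Nat.card (genLt (M.wl kb_g) 6) :=
  have := M.fin
  le_card_of_chain (c := 64) (LowLevel.card_fix (e := (pts M.x)) (lowLevel_words (M.tabs_wl kb_hg 6) M.inj kb_a_hl kb_a_0_s kb_a_0_o) (LowLevel.card_fix (e := (pts M.x)) (lowLevel_words (M.tabs_wl kb_hg 6) M.inj kb_a_hl kb_a_1_s kb_a_1_o) (card_fix_nil (pts M.x) _))) (words_le_genLt kb_a_hl _)

theorem kb_S : matZ 2 (epsMinus 2) 51808571392 = minusMat 2 (ZMod 2) 1 1 := by decide +kernel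

theorem kb_iso : ∀ x < 12, (force (kb_v_M x) fun c => allRange 0 64 (isoZ (nat_lit 2) (nat_lit 6) (nat_lit 0xc10081000) c)) = true := (allLt_iff _ _).1 (by decide +kernel)

noncomputable def kb_h (x : ℕ) : isometryGroup (ZMod 2) (quadFormMinus 2 (ZMod 2) 1 1) := pickZ (epsMinus 2) (isoRep (quadFormMinus 2 (ZMod 2) 1 1)) (kb_v_M x)

theorem kb_hs : ∀ x < 12, (isoRep (quadFormMinus 2 (ZMod 2) 1 1)) (kb_h x) = matZ 2 (epsMinus 2) (kb_v_M x) := fun x hx =>
  pickZ_spec _ (exists_iso _ (S := 51808571392) (fun u => by rw [kb_S]; exact minus_eq 1 1 u) (kb_v_inv x hx)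
    (allRange_zero (by have := kb_iso x hx; simp only [force_eq] at this; exact this)))

noncomputable def kb_H_T_t : BT :=
(.node (.node (.node (.node (.leaf (nat_lit 0xffef7cefae78df6d74cf2c70beeb6caeaa689e69648e28607de75c6da6585d65544d24503ce34c2ca2481c61440c2040))
 (.leaf (nat_lit 0x597f7cefa41179fd74cf2619bee105083a689e630d28b860db775c6dac31fbf5544d2e393ce9258a32481c6b2daab040)))
 (.leaf (nat_lit 0xffef7cefae78df6d74cf2c70beeb6caeaa689e69648e28607de75c6da6585d65544d24503ce34c2ca2481c61440c2040)))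
 (.node (.node (.leaf (nat_lit 0xffef7cefae78df6d74cf2c70beeb6caeaa689e69648e28607de75c6da6585d65544d24503ce34c2ca2481c61440c2040))
 (.leaf (nat_lit 0xa7eafcb7abf8de0d62ce4c66e6eeecf6afe89f09728f48767c874a6cc64e0560d41521d03d835a2dc25e4464c45425c0)))
 (.leaf (nat_lit 0xfeaf68eeee6cde2d60ce6c64bfab78afea7c9f29708f68742de25c3da3580d60541d21506ce64c7ca7484c64445c2540))))
 (.node (.node (.node (.leaf (nat_lit 0xffef7cefae78df6d74cf2c70beeb6caeaa689e69648e28607de75c6da6585d65544d24503ce34c2ca2481c61440c2040))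
 (.leaf (nat_lit 0xffef7c20928b105187cf2c7071d79faeaa689e6964411493b2dbaf6da6585d65548218a33ce34ce39ebbd35db70c2040)))
 (.leaf (nat_lit 0xffef7cefae78df6d74cf2c70beeb6caeaa689e69648e28607de75c6da6585d65544d24503ce34c2ca2481c61440c2040)))
 (.node (.node (.leaf (nat_lit 0xffef7cefae78df6d74cf2c70beeb6caeaa689e69648e28607de75c6da6585d65544d24503ce34c2ca2481c61440c2040))
 (.leaf (nat_lit 0xffef7cefae785545d64504d234c3ce2482ca9e69648e28607de75c6da658d74df6c70cf2b6cbeea68aea1c61440c2040)))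
 (.leaf (nat_lit 0xffef7c69b619df6d7449341138f30daeaa681871058e28607de75cebbe395d6554cb3c31bafb2d2ca2489a79250c2040)))))

noncomputable def kb_H_T : ℕ → ℕ → ℕ := fun x i => Nat.land (Nat.shiftRight (BT.get kb_H_T_t x) (Nat.mul (nat_lit 6) i)) (nat_lit 63)

theorem kb_H_r : allLt (nat_lit 12) (fun x => force x fun y => band (blt y (nat_lit 12)) (allRange 0 (nat_lit 64) fun i => Nat.beq (force (kb_v_M y) fun c => mv (nat_lit 2) (nat_lit 6) c i) (kb_H_T x i))) = true := by decide +kernel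

theorem kb_H_tabs : @Tabs _ _ _ (vecAct (isoRep (quadFormMinus 2 (ZMod 2) 1 1))) (vecZ 2 (epsMinus 2)) (2 ^ 6) kb_H_T kb_h 12 :=
  let _ := vecAct (isoRep (quadFormMinus 2 (ZMod 2) 1 1))
  Tabs.rename (ι := fun x => x) (tabs_vec (epsMinus 2) kb_hs) (by have := kb_H_r; simp only [force_eq] at this; exact this)

noncomputable def kb_H_l : LT :=
(.node (.node (.node (.leaf [nat_lit 11,nat_lit 9,nat_lit 7,nat_lit 9,nat_lit 7,nat_lit 10,nat_lit 11,nat_lit 6,nat_lit 11,nat_lit 9,nat_lit 7,nat_lit 10,nat_lit 11])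
 (.leaf [nat_lit 7]))
 (.leaf [nat_lit 9,nat_lit 11,nat_lit 8,nat_lit 11,nat_lit 9]))
 (.node (.node (.leaf [nat_lit 10,nat_lit 11,nat_lit 6,nat_lit 11,nat_lit 10])
 (.leaf [nat_lit 6]))
 (.leaf [nat_lit 11])))

theorem kb_H_hl : kb_H_l.all (lettersLt 12) = true := by decide +kernel

noncomputable def kb_H_5O : ℕ → ℕ := fun i => Nat.land (Nat.shiftRight (nat_lit 3104) (Nat.mul (nat_lit 6) i)) (nat_lit 63)

noncomputable def kb_H_5E : ℕ → ℕ := fun i => Nat.land (Nat.shiftRight (nat_lit 131072) (Nat.mul (nat_lit 9) i)) (nat_lit 511)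

theorem kb_H_5_s : band (blt (nat_lit 32) (nat_lit 64)) (band (Nat.ble (nat_lit 0) (nat_lit 1)) (allLt (nat_lit 0) fun y => Nat.beq (wT kb_H_T kb_H_l y (nat_lit 32)) (nat_lit 32))) = true := by decide +kernel

theorem kb_H_5_o : ∀ i < 2, (fun i => band (incOK kb_H_5O (nat_lit 2) (nat_lit 64) i) (orbL (wT kb_H_T kb_H_l) (nat_lit 1) kb_H_5O kb_H_5E (nat_lit 2) (Nat.beq (nat_lit 32)) i)) i = true := allRange_zero (len := (nat_lit 2)) (by decide +kernel)

noncomputable def kb_H_4O : ℕ → ℕ := fun i => Nat.land (Nat.shiftRight (nat_lit 198672) (Nat.mul (nat_lit 6) i)) (nat_lit 63)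

noncomputable def kb_H_4E : ℕ → ℕ := fun i => Nat.land (Nat.shiftRight (nat_lit 0x101808000000) (Nat.mul (nat_lit 18) i)) (nat_lit 262143)

theorem kb_H_4_s : band (blt (nat_lit 16) (nat_lit 64)) (band (Nat.ble (nat_lit 1) (nat_lit 2)) (allLt (nat_lit 1) fun y => Nat.beq (wT kb_H_T kb_H_l y (nat_lit 16)) (nat_lit 16))) = true := by decide +kernel

theorem kb_H_4_o : ∀ i < 3, (fun i => band (incOK kb_H_4O (nat_lit 3) (nat_lit 64) i) (orbL (wT kb_H_T kb_H_l) (nat_lit 2) kb_H_4O kb_H_4E (nat_lit 3) (Nat.beq (nat_lit 16)) i)) i = true := allRange_zero (len := (nat_lit 3)) (by decide +kernel)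

noncomputable def kb_H_3O : ℕ → ℕ := fun i => Nat.land (Nat.shiftRight (nat_lit 0xeaa682) (Nat.mul (nat_lit 6) i)) (nat_lit 63)

noncomputable def kb_H_3E : ℕ → ℕ := fun i => Nat.land (Nat.shiftRight (nat_lit 0x40b0200c08040000) (Nat.mul (nat_lit 18) i)) (nat_lit 262143)

theorem kb_H_3_s : band (blt (nat_lit 2) (nat_lit 64)) (band (Nat.ble (nat_lit 2) (nat_lit 3)) (allLt (nat_lit 2) fun y => Nat.beq (wT kb_H_T kb_H_l y (nat_lit 2)) (nat_lit 2))) = true := by decide +kernel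

theorem kb_H_3_o : ∀ i < 4, (fun i => band (incOK kb_H_3O (nat_lit 4) (nat_lit 64) i) (orbL (wT kb_H_T kb_H_l) (nat_lit 3) kb_H_3O kb_H_3E (nat_lit 4) (Nat.beq (nat_lit 2)) i)) i = true := allRange_zero (len := (nat_lit 4)) (by decide +kernel)

noncomputable def kb_H_2O : ℕ → ℕ := fun i => Nat.land (Nat.shiftRight (nat_lit 0x3aa9a202) (Nat.mul (nat_lit 6) i)) (nat_lit 63)

noncomputable def kb_H_2E : ℕ → ℕ := fun i => Nat.land (Nat.shiftRight (nat_lit 0x302002020700c04000040302) (Nat.mul (nat_lit 19) i)) (nat_lit 524287)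

theorem kb_H_2_s : band (blt (nat_lit 8) (nat_lit 64)) (band (Nat.ble (nat_lit 3) (nat_lit 4)) (allLt (nat_lit 3) fun y => Nat.beq (wT kb_H_T kb_H_l y (nat_lit 8)) (nat_lit 8))) = true := by decide +kernel

theorem kb_H_2_o : ∀ i < 5, (fun i => band (incOK kb_H_2O (nat_lit 5) (nat_lit 64) i) (orbL (wT kb_H_T kb_H_l) (nat_lit 4) kb_H_2O kb_H_2E (nat_lit 5) (Nat.beq (nat_lit 8)) i)) i = true := allRange_zero (len := (nat_lit 5)) (by decide +kernel)

noncomputable def kb_H_1O : ℕ → ℕ := fun i => Nat.land (Nat.shiftRight (nat_lit 0xfbddf5bad9e579d5d53cc184) (Nat.mul (nat_lit 6) i)) (nat_lit 63)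

noncomputable def kb_H_1E : ℕ → ℕ := fun i => Nat.land (Nat.shiftRight (nat_lit 0xb07006030140403802003060440402d050000104f080180202c0303c0301a0503a05049060400000) (Nat.mul (nat_lit 20) i)) (nat_lit 0xfffff)

theorem kb_H_1_s : band (blt (nat_lit 4) (nat_lit 64)) (band (Nat.ble (nat_lit 4) (nat_lit 5)) (allLt (nat_lit 4) fun y => Nat.beq (wT kb_H_T kb_H_l y (nat_lit 4)) (nat_lit 4))) = true := by decide +kernel

theorem kb_H_1_o : ∀ i < 16, (fun i => band (incOK kb_H_1O (nat_lit 16) (nat_lit 64) i) (orbL (wT kb_H_T kb_H_l) (nat_lit 5) kb_H_1O kb_H_1E (nat_lit 16) (Nat.beq (nat_lit 4)) i)) i = true := allRange_zero (len := (nat_lit 16)) (by decide +kernel)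

noncomputable def kb_H_0O : ℕ → ℕ := fun i => Nat.land (Nat.shiftRight (nat_lit 0x3ef7beb7d6eb6baa795e75b69754f309206103081) (Nat.mul (nat_lit 6) i)) (nat_lit 63)

noncomputable def kb_H_0E : ℕ → ℕ := fun i => Nat.land (Nat.shiftRight (nat_lit 0x5014026060020502a0282a4080d20402804044810118180f40c0b60300a8180681805e080480405c0302540c0c0020b303039818234141620e070040478202281016e0c0400000) (Nat.mul (nat_lit 21) i)) (nat_lit 0x1fffff)

theorem kb_H_0_s : band (blt (nat_lit 1) (nat_lit 64)) (band (Nat.ble (nat_lit 5) (nat_lit 6)) (allLt (nat_lit 5) fun y => Nat.beq (wT kb_H_T kb_H_l y (nat_lit 1)) (nat_lit 1))) = true := by decide +kernel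

theorem kb_H_0_o : ∀ i < 27, (fun i => band (incOK kb_H_0O (nat_lit 27) (nat_lit 64) i) (orbL (wT kb_H_T kb_H_l) (nat_lit 6) kb_H_0O kb_H_0E (nat_lit 27) (Nat.beq (nat_lit 1)) i)) i = true := allRange_zero (len := (nat_lit 27)) (by decide +kernel)

theorem kb_H  : 51840 ≤ Nat.card (genLt kb_h 12) :=
  let _ := vecAct (isoRep (quadFormMinus 2 (ZMod 2) 1 1))
  le_card_of_chain (c := 51840) (LowLevel.card_fix (e := (vecZ 2 (epsMinus 2))) (lowLevel_words kb_H_tabs (vecZ_injOn (epsMinus 2)) kb_H_hl kb_H_0_s kb_H_0_o) (LowLevel.card_fix (e := (vecZ 2 (epsMinus 2))) (lowLevel_words kb_H_tabs (vecZ_injOn (epsMinus 2)) kb_H_hl kb_H_1_s kb_H_1_o) (LowLevel.card_fix (e := (vecZ 2 (epsMinus 2))) (lowLevel_words kb_H_tabs (vecZ_injOn (epsMinus 2)) kb_H_hl kb_H_2_s kb_H_2_o) (LowLevel.card_fix (e := (vecZ 2 (epsMinus 2))) (lowLevel_words kb_H_tabs (vecZ_injOn (epsMinus 2)) kb_H_hl kb_H_3_s kb_H_3_o) (LowLevel.card_fix (e := (vecZ 2 (epsMinus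 2))) (lowLevel_words kb_H_tabs (vecZ_injOn (epsMinus 2)) kb_H_hl kb_H_4_s kb_H_4_o) (LowLevel.card_fix (e := (vecZ 2 (epsMinus 2))) (lowLevel_words kb_H_tabs (vecZ_injOn (epsMinus 2)) kb_H_hl kb_H_5_s kb_H_5_o) (card_fix_nil (vecZ 2 (epsMinus 2)) _))))))) (words_le_genLt kb_H_hl _)

noncomputable def kb_core_0E : ℕ → ℕ := fun i => Nat.land (Nat.shiftRight (nat_lit 0x308b0a00060980600000030b00030b00000000000000000070b509000a0b40800000050700050700000000000000000040880900070670700000020a00020600000000000000060b00000060700000090950b00040900040930ab08100000) (Nat.mul (nat_lit 12) i)) (nat_lit 4095)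

theorem kb_core_0o : allRange 0 (nat_lit 64) (orbOK kb_H_T (nat_lit 12) kb_core_0E (Nat.beq (nat_lit 1))) = true := by decide +kernel

noncomputable def kb_core_1E : ℕ → ℕ := fun i => Nat.land (Nat.shiftRight (nat_lit 0x60a00000080600000050a30800020900040a30b30a30b30740b00000020800000050b70b00040a00020750930950930a30900000050900000040840a00050b00030b20a40b20640b00030b30800040960a00000030a000100000000000000000) (Nat.mul (nat_lit 12) i)) (nat_lit 4095)

theorem kb_core_1o : allRange 0 (nat_lit 64) (orbOK kb_H_T (nat_lit 12) kb_core_1E (Nat.beq (nat_lit 5))) = true := by decide +kernel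

theorem kb_core_c : allRange 0 (nat_lit 64) (fun i => bor (Nat.beq i 0) (bor (Nat.ble 256 (kb_core_0E i)) (bor (Nat.ble 256 (kb_core_1E i)) (false)))) = true := by decide +kernel

theorem kb_core : pCore 2 (isometryGroup (ZMod 2) (quadFormMinus 2 (ZMod 2) 1 1)) = ⊥ := by
  let _ := vecAct (isoRep (quadFormMinus 2 (ZMod 2) 1 1))
  refine pCore_eq_bot_vec (epsMinus 2) (isoRep (quadFormMinus 2 (ZMod 2) 1 1)) (by decide) fun i hi h0 => ?_
  have h := allRange_zero kb_core_c i hi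
  simp only [bor_iff, nbeq_iff, h0, false_or, Bool.false_eq_true, or_false] at h
  rcases h with h | h
  · exact orb_base (B := [nat_lit 1,nat_lit 2,nat_lit 4,nat_lit 8,nat_lit 21,nat_lit 37]) kb_H_tabs kb_core_0o (vec_isBase' _ (isoRep_inj _) _ (isUnit_matZ (p := 2) (epsMinus 2) (M := 40082882689) (M' := 40082882689) (by decide +kernel)) (by decide +kernel)) (by decide +kernel) hi h
  · exact orb_base (B := [nat_lit 5,nat_lit 7,nat_lit 10,nat_lit 11,nat_lit 16,nat_lit 32]) kb_H_tabs kb_core_1o (vec_isBase' _ (isoRep_inj _) _ (isUnit_matZ (p := 2) (epsMinus 2) (M := 34631098821) (M' := 34630062284) (by decide +kernel)) (by decide +kernel)) (by decide +kernel) hi h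

noncomputable def kb_ge_P : ℕ → ℕ := fun i => Nat.land (Nat.shiftRight (nat_lit 0xd4bd4ad49d48d46d2bd03cc8cc7cc6cc4c0dab7ab6ab4a2ca19a18a179ac9ab9aa9a793092f92e91a9199189168b08a383283183081c7b97587426de6855c03142e82a62a42a029f27925325121e1d81d31d21d11ac1ab16e16d16c15311e0ad08b06e06d05605303800c000) (Nat.mul (nat_lit 12) i)) (nat_lit 4095)

noncomputable def kb_ge_T_t : BT :=
(.node (.node (.node (.node (.leaf (nat_lit 0x8f163447f0a0c086f9e3d74edcb86cddab266d18ae5ec15ac5aa8f284a993a43e810a246a4c1c2c6899d2e6ca9432488901e3868c16284880e182840608001))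
 (.leaf (nat_lit 0x8f1a2c4870a0c07ef9ebc68c98af5aad53b50e9ca77095ba46cd54b3608572c46893203e78e9c3268d982e4c9102c5469416288891e386080e182840608080)))
 (.leaf (nat_lit 0x8f16344870613e7f01e3d74edca66ed99b46ac922e5ec15ac5aa94a84ee12b13e890a04678c042c5cc9d346ca942638789224868c16288020e1431c0620080)))
 (.node (.node (.leaf (nat_lit 0x891a2c77f0a0c086f9ebc76e96386cddab266d18b042b96b956a14aa4a993a43e897a04678e842c68c982e6ca942638789224868c16288020e1431c0620080))
 (.leaf (nat_lit 0x6ecdab672e9db058b9c26830a1bd8f122b48cc98c05ef96bf56a85284ef12a41e5108c2254e960868c982e70f222648f9046386a016a44880e1829b0608080)))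
 (.leaf (nat_lit 0x7f06143891633c8ef5f4066d5b2e58e5d2876a95a64ae123762c94b442c17ad46893a03e78d1c3674c973058a9426488901e3868c16284880e182840608080))))
 (.node (.node (.node (.leaf (nat_lit 0x8f1a2c4870a0c07ef9ebc76e9cb86ed9ab266d123042b95ac5aa0f2a4a993b13e817a246a4c042c5cc9d346c50c2648790223869416544880e1829c0608080))
 (.leaf (nat_lit 0x811a2be7b0a0c779121bf76e9c3960b9ab466c97b762d93a64aa91a85ab15a152892203c7ce9c3668c982e588942634a90142c90c1c3c4871018284040c080)))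
 (.leaf (nat_lit 0x891a2c787061407ef9e3d76e96386ed99b46ac922e5ec16b956a0f2a4a993b146890a03ea4c1c2c6899d2e6ca8c324878922385941a2880806143040e08001)))
 (.node (.node (.leaf (nat_lit 0x89163477f0614086f9ebc76e9ca66ed9ab466c98ae42c16ac56a94a84ae13a43e817a24678e9c2c689982e6c51432388901e4868c165448806143040e08080))
 (.leaf (nat_lit 0x131a290862c6c07ef899976e83386ed819f0e8d880380500544a94a84e992a464ac22d6878eaf3655e181458d147a488c41e3a08c845e38866e56216a09730)))
 (.leaf (nat_lit 0x850dfc18d1e2408af9ebc6cdd9b874ed62b72b54305eb993568914b14e992aa407d0a34478e9c3668c982e58a912648a0d183880f12285880c1c1840a08080)))))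

noncomputable def kb_ge_T : ℕ → ℕ → ℕ := fun x i => Nat.land (Nat.shiftRight (BT.get kb_ge_T_t x) (Nat.mul (nat_lit 7) i)) (nat_lit 127)

theorem kb_ge_res : ∀ i < 72, (resOK (wT X kb_g) kb_ge_T kb_ge_P (nat_lit 3510) (nat_lit 72) (nat_lit 12)) i = true := allRange_zero (len := (nat_lit 72)) (by decide +kernel)

theorem kb_ge_tabs {G : Type*} [Group G] (M : Mod G) : Tabs (fun i => pts M.x (kb_ge_P i)) 72 kb_ge_T (M.wl kb_g) 12 ∧ Set.InjOn (fun i => pts M.x (kb_ge_P i)) (Set.Iio 72) :=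
  res_spec (M.tabs_wl kb_hg 12) M.inj kb_ge_res

noncomputable def kb_ge_l : LT :=
(.node (.node (.node (.node (.leaf [nat_lit 8])
 (.leaf [nat_lit 10]))
 (.leaf [nat_lit 7]))
 (.node (.leaf [nat_lit 6])
 (.leaf [nat_lit 9,nat_lit 7,nat_lit 0,nat_lit 11,nat_lit 8,nat_lit 6,nat_lit 11,nat_lit 8,nat_lit 6,nat_lit 9,nat_lit 6,nat_lit 8,nat_lit 11,nat_lit 6,nat_lit 8,nat_lit 11,nat_lit 0,nat_lit 7,nat_lit 9])))
 (.node (.node (.node (.leaf [nat_lit 1,nat_lit 8,nat_lit 1])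
 (.leaf [nat_lit 11]))
 (.leaf [nat_lit 3]))
 (.node (.leaf [nat_lit 0,nat_lit 6,nat_lit 0])
 (.leaf [nat_lit 9]))))

theorem kb_ge_hl : kb_ge_l.all (lettersLt 12) = true := by decide +kernel

noncomputable def kb_ge_5O : ℕ → ℕ := fun i => Nat.land (Nat.shiftRight (nat_lit 672137) (Nat.mul (nat_lit 5) i)) (nat_lit 31)

noncomputable def kb_ge_5E : ℕ → ℕ := fun i => Nat.land (Nat.shiftRight (nat_lit 0x80c080402000000) (Nat.mul (nat_lit 17) i)) (nat_lit 131071)

theorem kb_ge_5_s : band (blt (nat_lit 9) (nat_lit 72)) (band (Nat.ble (nat_lit 0) (nat_lit 2)) (allLt (nat_lit 0) fun y => Nat.beq (wT kb_ge_T kb_ge_l y (nat_lit 9)) (nat_lit 9))) = true := by decide +kernel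

theorem kb_ge_5_o : ∀ i < 4, (fun i => band (incOK kb_ge_5O (nat_lit 4) (nat_lit 72) i) (orbL (wT kb_ge_T kb_ge_l) (nat_lit 2) kb_ge_5O kb_ge_5E (nat_lit 4) (Nat.beq (nat_lit 9)) i)) i = true := allRange_zero (len := (nat_lit 4)) (by decide +kernel)

noncomputable def kb_ge_4O : ℕ → ℕ := fun i => Nat.land (Nat.shiftRight (nat_lit 977687) (Nat.mul (nat_lit 5) i)) (nat_lit 31)

noncomputable def kb_ge_4E : ℕ → ℕ := fun i => Nat.land (Nat.shiftRight (nat_lit 0x81c080c02040000) (Nat.mul (nat_lit 17) i)) (nat_lit 131071)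

theorem kb_ge_4_s : band (blt (nat_lit 23) (nat_lit 72)) (band (Nat.ble (nat_lit 2) (nat_lit 4)) (allLt (nat_lit 2) fun y => Nat.beq (wT kb_ge_T kb_ge_l y (nat_lit 23)) (nat_lit 23))) = true := by decide +kernel

theorem kb_ge_4_o : ∀ i < 4, (fun i => band (incOK kb_ge_4O (nat_lit 4) (nat_lit 72) i) (orbL (wT kb_ge_T kb_ge_l) (nat_lit 4) kb_ge_4O kb_ge_4E (nat_lit 4) (Nat.beq (nat_lit 23)) i)) i = true := allRange_zero (len := (nat_lit 4)) (by decide +kernel)

noncomputable def kb_ge_3O : ℕ → ℕ := fun i => Nat.land (Nat.shiftRight (nat_lit 0x8e281f1c6143) (Nat.mul (nat_lit 6) i)) (nat_lit 63)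

noncomputable def kb_ge_3E : ℕ → ℕ := fun i => Nat.land (Nat.shiftRight (nat_lit 0x80c180106c08190206004150205004100000) (Nat.mul (nat_lit 18) i)) (nat_lit 262143)

theorem kb_ge_3_s : band (blt (nat_lit 3) (nat_lit 72)) (band (Nat.ble (nat_lit 4) (nat_lit 7)) (allLt (nat_lit 4) fun y => Nat.beq (wT kb_ge_T kb_ge_l y (nat_lit 3)) (nat_lit 3))) = true := by decide +kernel

theorem kb_ge_3_o : ∀ i < 8, (fun i => band (incOK kb_ge_3O (nat_lit 8) (nat_lit 72) i) (orbL (wT kb_ge_T kb_ge_l) (nat_lit 7) kb_ge_3O kb_ge_3E (nat_lit 8) (Nat.beq (nat_lit 3)) i)) i = true := allRange_zero (len := (nat_lit 8)) (by decide +kernel)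

noncomputable def kb_ge_2O : ℕ → ℕ := fun i => Nat.land (Nat.shiftRight (nat_lit 0xa638a07de2071850c2) (Nat.mul (nat_lit 6) i)) (nat_lit 63)

noncomputable def kb_ge_2E : ℕ → ℕ := fun i => Nat.land (Nat.shiftRight (nat_lit 0xa05073040610206403062030670407403071020520305102040010700000) (Nat.mul (nat_lit 20) i)) (nat_lit 0xfffff)

theorem kb_ge_2_s : band (blt (nat_lit 2) (nat_lit 72)) (band (Nat.ble (nat_lit 7) (nat_lit 8)) (allLt (nat_lit 7) fun y => Nat.beq (wT kb_ge_T kb_ge_l y (nat_lit 2)) (nat_lit 2))) = true := by decide +kernel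

theorem kb_ge_2_o : ∀ i < 12, (fun i => band (incOK kb_ge_2O (nat_lit 12) (nat_lit 72) i) (orbL (wT kb_ge_T kb_ge_l) (nat_lit 8) kb_ge_2O kb_ge_2E (nat_lit 12) (Nat.beq (nat_lit 2)) i)) i = true := allRange_zero (len := (nat_lit 12)) (by decide +kernel)

noncomputable def kb_ge_1O : ℕ → ℕ := fun i => Nat.land (Nat.shiftRight (nat_lit 0xa638a07de71b6565544d24503ce34c2ca2481c61440c2) (Nat.mul (nat_lit 6) i)) (nat_lit 63)

noncomputable def kb_ge_1E : ℕ → ℕ := fun i => Nat.land (Nat.shiftRight (nat_lit 0x100810d050890304281821e0a1130408a0184080422c040160205a81833c1412c04036020698203ac10110080f4030680183b414118080f103064828214201f40e0dc0606c830300000360e0c10807) (Nat.mul (nat_lit 21) i)) (nat_lit 0x1fffff)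

theorem kb_ge_1_s : band (blt (nat_lit 4) (nat_lit 72)) (band (Nat.ble (nat_lit 8) (nat_lit 9)) (allLt (nat_lit 8) fun y => Nat.beq (wT kb_ge_T kb_ge_l y (nat_lit 4)) (nat_lit 4))) = true := by decide +kernel

theorem kb_ge_1_o : ∀ i < 30, (fun i => band (incOK kb_ge_1O (nat_lit 30) (nat_lit 72) i) (orbL (wT kb_ge_T kb_ge_l) (nat_lit 9) kb_ge_1O kb_ge_1E (nat_lit 30) (Nat.beq (nat_lit 4)) i)) i = true := allRange_zero (len := (nat_lit 30)) (by decide +kernel)

noncomputable def kb_ge_0O : ℕ → ℕ := fun i => Nat.land (Nat.shiftRight (nat_lit 0x8f1a2c4870a0c07ef9ebc76e9cb86ed9ab466c98b05eb96ac56a94a84e992a446890a03e78e9c3668c982e58a9426488901e3868c16284880e182840608080) (Nat.mul (nat_lit 7) i)) (nat_lit 127)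

noncomputable def kb_ge_0E : ℕ → ℕ := fun i => Nat.land (Nat.shiftRight (nat_lit 0x6e0610cc1421a8284360408720810e81021d8284300208580810b80c21c01842603086c0808dc0c11c0183b0020360040eb80c1d582032b04045a080cb41011782038001094e0606c0081538183a603074a060ed8101918303b70306600400c0080980100a10407640a12ac1025381812d0409680a127c181e001832f0409080a10f01019e0204be04067a080c701420d0284a205087a08126c1818f8304440509460c1058181a08304a00508840a125c142638204870607660a12e4102560204a104096a0a120c181d70184800000) (Nat.mul (nat_lit 23) i)) (nat_lit 0x7fffff)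

theorem kb_ge_0_s : band (blt (nat_lit 0) (nat_lit 72)) (band (Nat.ble (nat_lit 9) (nat_lit 10)) (allLt (nat_lit 9) fun y => Nat.beq (wT kb_ge_T kb_ge_l y (nat_lit 0)) (nat_lit 0))) = true := by decide +kernel

theorem kb_ge_0_o : ∀ i < 72, (fun i => band (incOK kb_ge_0O (nat_lit 72) (nat_lit 72) i) (orbL (wT kb_ge_T kb_ge_l) (nat_lit 10) kb_ge_0O kb_ge_0E (nat_lit 72) (Nat.beq (nat_lit 0)) i)) i = true := allRange_zero (len := (nat_lit 72)) (by decide +kernel)

theorem kb_ge {G : Type*} [Group G] (M : Mod G) : 3317760 ≤ Nat.card (genLt (M.wl kb_g) 12) :=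
  have := M.fin
  le_card_of_chain (c := 3317760) (LowLevel.card_fix (e := (fun i => pts M.x (kb_ge_P i))) (lowLevel_words (kb_ge_tabs M).1 (kb_ge_tabs M).2 kb_ge_hl kb_ge_0_s kb_ge_0_o) (LowLevel.card_fix (e := (fun i => pts M.x (kb_ge_P i))) (lowLevel_words (kb_ge_tabs M).1 (kb_ge_tabs M).2 kb_ge_hl kb_ge_1_s kb_ge_1_o) (LowLevel.card_fix (e := (fun i => pts M.x (kb_ge_P i))) (lowLevel_words (kb_ge_tabs M).1 (kb_ge_tabs M).2 kb_ge_hl kb_ge_2_s kb_ge_2_o) (LowLevel.card_fix (e := (fun i => pts M.x (kb_ge_P i))) (lowLevel_words (kb_ge_tabs M).1 (kb_ge_tabs M).2 kb_ge_hl kb_ge_3_s kb_ge_3_o) (LowLevel.card_fix (e := (fun i => pts M.x (kb_ge_P i))) (lowLevel_words (kb_ge_tabs M).1 (kb_ge_tabs M).2 kb_ge_hl kb_ge_4_s kb_ge_4_o) (LowLevel.card_fix (e := (fun i => pts M.x (kb_ge_P i))) (lowLevel_words (kb_ge_tabs M).1 (kb_ge_tabs M).2 kb_ge_hl kb_ge_5_s kb_ge_5_o) (card_fix_nil (fun i => pts M.x (kb_ge_P i)) _))))))) (words_le_genLt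 kb_ge_hl _)

theorem kb_cardO {G : Type*} [Group G] (M : Mod G) : Nat.card (genLt (M.wl kb_g) 6) = 2 ^ 6 :=
  have := M.fin
  (kb_v_ab M).isPC.card_eq (by decide) (kb_a M) le_rfl

theorem kb_quot {G : Type*} [Group G] (M : Mod G) (h : Nat.card (genLt (M.wl kb_g) 12) = 3317760) :
    (pCore 2 (genLt (M.wl kb_g) 12)).map (genLt (M.wl kb_g) 12).subtype = genLt (M.wl kb_g) 6 ∧
    ∃ _ : ((genLt (M.wl kb_g) 6).subgroupOf (genLt (M.wl kb_g) 12)).Normal,
      Nonempty (genLt (M.wl kb_g) 12 ⧸ (genLt (M.wl kb_g) 6).subgroupOf (genLt (M.wl kb_g) 12) ≃*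
        isometryGroup (ZMod 2) (quadFormMinus 2 (ZMod 2) 1 1)) := by
  have := M.fin
  obtain ⟨φ, -, h1, h2⟩ := Fn.exists_ker_surj (a := 6) (c := 51840) (fn_of_lin (kb_v_ab M) (kb_a M)
    (kb_v_tabs M) (epsMinus 2) (isoRep_inj _) kb_hs) (by decide)
    (fun x hx => pickZ_eq_one _ (isoRep_inj _) ((allLt_iff _ _).1 (by decide +kernel :
      allLt 6 (fun x => idZ 2 6 (kb_v_M x)) = true) x hx)) (by rw [h, kb_cardO]; decide) kb_H
    (by rw [Cfsg.Agent.S0288.result (ZMod.card 2) 3 (by decide) 1 1 (by decide)]; decide)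
  refine ⟨?_, quot_of_ker_surj φ h1 h2⟩
  rw [pCore_eq_of_hom φ h1 h2 ((kb_v_ab M).isPC.isPGroup (by decide) (kb_a M)) kb_core,
    Subgroup.map_subgroupOf_eq_of_le (genLt_mono _ (by decide))]

end Cfsg.Agent.Spor.F22
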