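import Mathlib
import Cfsg.Agent.Spor.F22.Base2

/-! Generated by tools/fl: elements of order 13 of Fi22 -/

set_option autoImplicit false
set_option maxRecDepth 100000
set_option linter.unusedVariables false
set_option exponentiation.threshold 100000

namespace Cfsg.Agent.Spor.F22

open Cfsg.Agent.Spor Cfsg.Agent.Spor.FL

noncomputable def c13_f : LT :=
(.node (.node (.leaf [nat_lit 3517,nat_lit 3516,nat_lit 3512,nat_lit 3520])
 (.leaf [nat_lit 205]))
 (.leaf [nat_lit 3520,nat_lit 3513,nat_lit 3516,nat_lit 3517]))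

noncomputable def c13_l : LT :=
(.leaf [nat_lit 3517,nat_lit 3512,nat_lit 3520,nat_lit 3516])

theorem c13_hf : c13_f.all (lettersLt 3525) = true := by decide +kernel

theorem c13_hl : c13_l.all (lettersLt 3525) = true := by decide +kernel

theorem c13_low : allLt (nat_lit 1) (fun y => allLt (nat_lit 2) fun s => commW X (nat_lit 3525) B (c13_l.get y) (c13_f.get s)) = true := by decide +kernel

theorem c13_bot : band (lettersLt (nat_lit 3525) [nat_lit 3510,nat_lit 3512,nat_lit 3511,nat_lit 3514,nat_lit 3510,nat_lit 3514,nat_lit 3515,nat_lit 3511,nat_lit 3514,nat_lit 3510,nat_lit 3512,nat_lit 3515,nat_lit 3516,nat_lit 3515,nat_lit 3510,nat_lit 3514,nat_lit 3515,nat_lit 3512,nat_lit 3516,nat_lit 3515,nat_lit 3511,nat_lit 3514,nat_lit 3520,nat_lit 3512,nat_lit 3515,nat_lit 3510,nat_lit 3516]) (TM.all2 (TM.botOK X (nat_lit 3510) (nat_lit 3525) B c13_f (nat_lit 3) [nat_lit 3510,nat_lit 3512,nat_lit 3511,nat_lit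 3514,nat_lit 3510,nat_lit 3514,nat_lit 3515,nat_lit 3511,nat_lit 3514,nat_lit 3510,nat_lit 3512,nat_lit 3515,nat_lit 3516,nat_lit 3515,nat_lit 3510,nat_lit 3514,nat_lit 3515,nat_lit 3512,nat_lit 3516,nat_lit 3515,nat_lit 3511,nat_lit 3514,nat_lit 3520,nat_lit 3512,nat_lit 3515,nat_lit 3510,nat_lit 3516]) [nat_lit 0,nat_lit 2,nat_lit 3,nat_lit 5,nat_lit 17,nat_lit 1] [[nat_lit 2,nat_lit 205,nat_lit 1,nat_lit 2,nat_lit 1,nat_lit 2,nat_lit 0,nat_lit 2,nat_lit 1,nat_lit 1,nat_lit 1,nat_lit 2,nat_lit 1],[nat_lit 2,nat_lit 205,nat_lit 2,nat_lit 1,nat_lit 1,nat_lit 1,nat_lit 1,nat_lit 2,nat_lit 1,nat_lit 1,nat_lit 1,nat_lit 1,nat_lit 2,nat_lit 1,nat_lit 1,nat_lit 1,nat_lit 1],[nat_lit 2,nat_lit 205,nat_lit 1,nat_lit 1,nat_lit 1,nat_lit 2,nat_lit 1,nat_lit 2,nat_lit 1,nat_lit 1,nat_lit 2,nat_lit 1,nat_lit 1,nat_lit 1,nat_lit 2,nat_lit 1],[nat_lit 2,nat_lit 205,nat_lit 1,nat_lit 1,nat_lit 1,nat_lit 1,nat_lit 1,nat_lit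 2,nat_lit 1,nat_lit 2,nat_lit 1,nat_lit 2,nat_lit 1,nat_lit 1,nat_lit 2,nat_lit 1],[nat_lit 2,nat_lit 205,nat_lit 0,nat_lit 2,nat_lit 0,nat_lit 0,nat_lit 0,nat_lit 2,nat_lit 0,nat_lit 0,nat_lit 0,nat_lit 2,nat_lit 0,nat_lit 0],[nat_lit 2,nat_lit 205,nat_lit 1,nat_lit 1,nat_lit 2,nat_lit 1,nat_lit 2,nat_lit 0,nat_lit 0]]) = true := by decide +kernel

theorem c13_c1 {G : Type*} [Group G] (M : Mod G) (hM : Good M) (low : genLt (M.wl c13_l) 0 ≤ cen (M.wl c13_f) 3) : TM.CL (M.wl c13_f) 3 (M.wl c13_l) 0 1 :=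
  M.cl_bot c13_hf M.base c13_bot _

noncomputable def c13_0O : ℕ → ℕ := fun i => Nat.land (Nat.shiftRight (nat_lit 0xc04b659d78988757316895d938d3702b125c0cd) (Nat.mul (nat_lit 12) i)) (nat_lit 4095)

noncomputable def c13_0E : ℕ → ℕ := fun i => Nat.land (Nat.shiftRight (nat_lit 0x9060040a0050400a05003020060800c070080300709000010010c00b0b0000000) (Nat.mul (nat_lit 20) i)) (nat_lit 0xfffff)

noncomputable def c13_0_ts : List (List ℕ) := [[nat_lit 1,nat_lit 1,nat_lit 1,nat_lit 1,nat_lit 255,nat_lit 0,nat_lit 0,nat_lit 0],[nat_lit 0,nat_lit 1,nat_lit 1,nat_lit 255,nat_lit 0,nat_lit 0],[nat_lit 0,nat_lit 1,nat_lit 255,nat_lit 0],[nat_lit 1,nat_lit 0,nat_lit 0,nat_lit 255,nat_lit 0,nat_lit 255,nat_lit 0,nat_lit 255,nat_lit 1,nat_lit 255,nat_lit 1,nat_lit 255,nat_lit 1,nat_lit 1],[nat_lit 1,nat_lit 0,nat_lit 255,nat_lit 0,nat_lit 0,nat_lit 0,nat_lit 0,nat_lit 255,nat_lit 1,nat_lit 1,nat_lit 1,nat_lit 1,nat_lit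 255,nat_lit 1]]

theorem c13_0_s : TM.stepOK X (nat_lit 3510) (nat_lit 3525) B c13_f c13_l (nat_lit 2) (nat_lit 1) (nat_lit 0) (nat_lit 13) (nat_lit 13) (nat_lit 205) (fun _ => true) c13_0_ts = true := by decide +kernel

theorem c13_0_o : ∀ i < 13, (fun i => band (incOK c13_0O (nat_lit 13) (nat_lit 3510) i) (orbL (wT X c13_l) (nat_lit 1) c13_0O c13_0E (nat_lit 13) (Nat.beq (nat_lit 205)) i)) i = true := allRange_zero (len := (nat_lit 13)) (by decide +kernel)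

theorem c13_0_n : CntLe (fun i => force ((fun i => i) i) (tsts (wT X c13_f) X c13_0_ts)) 3510 13 := cntLe_of (a := (nat_lit 3510)) (c := (nat_lit 13)) (by decide +kernel)

theorem c13_c0 {G : Type*} [Group G] (M : Mod G) (hM : Good M) (low : genLt (M.wl c13_l) 1 ≤ cen (M.wl c13_f) 2) : TM.CL (M.wl c13_f) 2 (M.wl c13_l) 1 13 :=
  M.cl_step c13_hf c13_hl low (c13_c1 M hM) (inv_true _ _ _) (win_id _ _) c13_0_s c13_0_o c13_0_n (Or.inl le_rfl)

theorem c13 {G : Type*} [Group G] (M : Mod G) (hM : Good M) : TM.CL (M.wl c13_f) 2 (M.wl c13_l) 1 13 :=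
  c13_c0 M hM (M.low_of_comm c13_low)

theorem c13_card {G : Type*} [Group G] (M : Mod G) (hM : Good M) : Nat.card (Subgroup.centralizer ({M.wl c13_f 0} : Set G)) = 13 := by
  rw [← cen_one, ← cen_eq_of_mem (b := 2) (by decide) (M.mem_genLt_inv c13_hf (by decide +kernel))]
  exact (c13 M hM).card

theorem c13_ord {G : Type*} [Group G] (M : Mod G) : orderOf (M.wl c13_f 0) = 13 :=
  have : Fact (Nat.Prime 13) := ⟨by norm_num⟩
  M.orderOf_prime (by decide +kernel) (by decide +kernel)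

/-- An element acting on the subgroup of order 13. -/
def c13_y : List ℕ := [nat_lit 3524,nat_lit 3519,nat_lit 3518,nat_lit 3514,nat_lit 3520,nat_lit 3515,nat_lit 3514,nat_lit 3512,nat_lit 3510,nat_lit 3515,nat_lit 3516,nat_lit 3515,nat_lit 3510,nat_lit 3515,nat_lit 3512,nat_lit 3514,nat_lit 3513,nat_lit 3514,nat_lit 3513,nat_lit 3510,nat_lit 3512,nat_lit 3511]

theorem c13_xy {G : Type*} [Group G] (M : Mod G) : M.w c13_y * M.wl c13_f 0 * (M.w c13_y)⁻¹ = M.wl c13_f 0 ^ 4 :=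
  (M.cj (w := powW 4 (c13_f.get 0)) (by decide +kernel)).trans (evalW_powW _ _ _)

theorem c13_yo {G : Type*} [Group G] (M : Mod G) : M.w c13_y ^ 6 = 1 := M.pow_one (by decide +kernel)

theorem c13_N {G : Type*} [Group G] (M : Mod G) (hM : Good M) : Subgroup.normalizer (Subgroup.zpowers (M.wl c13_f 0) : Set G) = Subgroup.centralizer {M.wl c13_f 0} ⊔ Subgroup.zpowers (M.w c13_y) ∧
    Nat.card (Subgroup.normalizer (Subgroup.zpowers (M.wl c13_f 0) : Set G)) = 6 * 13 :=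
  have := M.fin
  have : Fact (Nat.Prime 13) := ⟨by norm_num⟩
  normalizer_zpowers_sylow (c13_ord M) (c13_xy M) (by decide) hM.card (by norm_num) (c13_card M hM) (by decide +kernel)

end Cfsg.Agent.Spor.F22
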